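import Groth.Agent.ConeX.Retraction
import Groth.Agent.GrModX.MapProps

/-!
# The affine cone inside the projective cone
-/

universe u

open CategoryTheory CategoryTheory.Limits AlgebraicGeometry TopologicalSpace Opposite HomogeneousLocalization
open scoped HomogeneousIdeal

set_option backward.isDefEq.respectTransparency false
set_option backward.isDefEq.respectTransparency.types false
set_option linter.style.haveILetI false
set_option linter.unusedSectionVars false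

noncomputable section

namespace Groth.Agent.ConeX

open Groth.Agent

variable {Y PC P : Scheme.{u}} {𝒮 𝒮h : RelProj.QCGrAlg Y} {ι : 𝒮.toQCAlg ⟶ 𝒮h.toQCAlg}
  {z : 𝒮h.presheaf.obj (op ⊤)} (hz : RelCone.IsPolyOver 𝒮 𝒮h ι z) {pC : PC ⟶ Y}
  {chartC : ∀ (U : Y.Opens) (hU : IsAffineOpen U), (((pC ⁻¹ᵁ U : PC.Opens) : Scheme.{u}) ≅ Proj (𝒮h.deg U hU))}
  (hC : RelProj.IsRelProj 𝒮h pC chartC) {p : P ⟶ Y}
  {chart : ∀ (U : Y.Opens) (hU : IsAffineOpen U), (((p ⁻¹ᵁ U : P.Opens) : Scheme.{u}) ≅ Proj (𝒮.deg U hU))}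
  (hP : RelProj.IsRelProj 𝒮 p chart) {i : 𝒮.toQCAlg.spec ⟶ PC} (hi : RelCone.IsConeImm 𝒮 hz pC chartC i)

include hC hi in
/-- The cone immersion lies over the base. -/
theorem coneImm_comp : i ≫ pC = 𝒮.toQCAlg.π := by
  let 𝒰 : 𝒮.toQCAlg.spec.OpenCover :=
    { I₀ := Y.affineOpens
      X := fun U => Spec (𝒮.presheaf.obj (op U.1))
      f := fun U => 𝒮.toQCAlg.ι U.1 U.2
      mem₀ := by
        rw [Scheme.ofArrows_mem_precoverage_iff]
        refine ⟨fun x => ?_, fun U => inferInstance⟩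
        obtain ⟨_, ⟨U, hU, rfl⟩, hxU, -⟩ := Y.isBasis_affineOpens.exists_subset_of_mem_open
          (Set.mem_univ (𝒮.toQCAlg.π x)) isOpen_univ
        exact ⟨⟨U, hU⟩, (𝒮.toQCAlg.π_preimage U hU).le hxU⟩ }
  refine 𝒰.hom_ext _ _ fun U => ?_
  obtain ⟨U, hU⟩ := U
  show 𝒮.toQCAlg.ι U hU ≫ i ≫ pC = 𝒮.toQCAlg.ι U hU ≫ 𝒮.toQCAlg.π
  have eB : RelProj.emb pC chartC U hU ≫ pC =
      Proj.toSpecZero (𝒮h.deg U hU) ≫ Spec.map (𝒮h.strZero U hU) ≫ hU.fromSpec := by
    show ((chartC U hU).inv ≫ (pC ⁻¹ᵁ U).ι) ≫ pC = _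
    rw [Category.assoc, ← hC.chart_over U hU, Iso.inv_hom_id_assoc]
  rw [← Category.assoc, hi U hU, Category.assoc, Category.assoc, eB, RelSpec.QCAlg.ι_π,
    Proj.awayι_toSpecZero_assoc, ← Spec.map_comp_assoc, ← Spec.map_comp_assoc]
  congr 2
  refine CommRingCat.hom_ext (RingHom.ext fun r => ?_)
  show hz.awayZToBase U hU (fromZeroRingHom (𝒮h.deg U hU) (Submonoid.powers _) ((𝒮h.strZero U hU).hom r)) =
    (𝒮.str.app (op U)).hom r
  rw [hz.awayZToBase_of_val U hU _ ((𝒮h.str.app (op U)).hom r) 0 (by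
    show Localization.mk _ _ = Localization.mk _ _
    congr 1
    exact Subtype.ext (pow_zero _).symm)]
  rw [← ι.comm]
  exact hz.evalOne_ι U hU _

/-- The point of `Proj` of a chart is seen on homogeneous elements of positive degree. -/
lemma proj_point_ext {A : Type u} [CommRing A] {σ : Type u} [SetLike σ A] [AddSubgroupClass σ A] {𝒜 : ℕ → σ}
    [GradedRing 𝒜] (x y : Proj 𝒜)
    (h : ∀ (d : ℕ) (f : A), 0 < d → f ∈ 𝒜 d → (x ∈ Proj.basicOpen 𝒜 f ↔ y ∈ Proj.basicOpen 𝒜 f)) : x = y := by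
  refine Inseparable.eq (inseparable_iff_forall_isOpen.mpr fun O hO => ⟨fun hx => ?_, fun hy => ?_⟩)
  · obtain ⟨f, d, hd, hf, hxf, hle⟩ := GrModX.exists_basicOpen_le 𝒜 (V := ⟨O, hO⟩) (y := x) hx
    exact hle ((h d f hd hf).mp hxf)
  · obtain ⟨f, d, hd, hf, hyf, hle⟩ := GrModX.exists_basicOpen_le 𝒜 (V := ⟨O, hO⟩) (y := y) hy
    exact hle ((h d f hd hf).mpr hyf)

/-- The inverse image of a standard open of the projective cone under the chart of the affine cone. -/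
lemma coneChart_mem_iff (U : Y.Opens) (hU : IsAffineOpen U) {d : ℕ} (hd : 0 < d) (f : 𝒮.presheaf.obj (op U))
    (hf : f ∈ 𝒮.deg U hU d) (t : Spec (𝒮.presheaf.obj (op U))) :
    Proj.awayι (𝒮h.deg U hU) (RelCone.restrictTop 𝒮h z U) (hz.deg_z U hU) one_pos
        (Spec.map (CommRingCat.ofHom (hz.awayZToBase U hU)) t) ∈
      Proj.basicOpen (𝒮h.deg U hU) (RelProj.gradedHomAt ι hz.graded U hU f) ↔ f ∉ t.asIdeal := by
  refine Iff.trans (SetLike.ext_iff.mp (Proj.awayι_preimage_basicOpen (𝒮h.deg U hU) (hz.deg_z U hU) one_pos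
    (g := RelProj.gradedHomAt ι hz.graded U hU f) ((RelProj.gradedHomAt ι hz.graded U hU).2 hf) hd)
    (Spec.map (CommRingCat.ofHom (hz.awayZToBase U hU)) t)) ?_
  show ¬ (hz.awayZToBase U hU (Away.isLocalizationElem (hz.deg_z U hU)
    ((RelProj.gradedHomAt ι hz.graded U hU).2 hf))) ∈ t.asIdeal ↔ _
  rw [Away.isLocalizationElem, hz.awayZToBase_of_val U hU _ _ d (Away.val_mk _ _ _ _ _), map_pow, pow_one]
  erw [hz.evalOne_ι U hU f]

include hC hi in
/-- The affine cone meets the pointed projective cone in the pointed affine cone. -/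
theorem coneImm_mem_iff (x : 𝒮.toQCAlg.spec) :
    i x ∈ RelProj.domQ (RelProj.QGrHom.ofHom ι hz.graded) pC chartC ↔ x ∈ RelCone.pointedCone 𝒮 := by
  obtain ⟨_, ⟨U, hU, rfl⟩, hxU, -⟩ := Y.isBasis_affineOpens.exists_subset_of_mem_open
    (Set.mem_univ (𝒮.toQCAlg.π x)) isOpen_univ
  obtain ⟨t, rfl⟩ := (𝒮.toQCAlg.π_preimage U hU).le hxU
  rw [← Scheme.Hom.comp_apply, hi U hU, Scheme.Hom.comp_apply, Scheme.Hom.comp_apply,
    Proj16.emb_mem_domQ_iff ι hz.graded hC U hU, mem_pointedCone 𝒮 U hU, mem_vertexCompl]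
  constructor
  · intro h
    obtain ⟨d, f, hd, hf, hft⟩ := Proj16.exists_homogeneous_of_mem_domOpen _ h
    exact ⟨f, HomogeneousIdeal.mem_irrelevant_of_mem _ hd hf,
      (coneChart_mem_iff hz U hU hd f hf t).mp hft⟩
  · rintro ⟨a, ha, hat⟩
    obtain ⟨d, f, hd, hf, hft⟩ := Proj16.exists_homogeneous_notMem' (𝒜 := 𝒮.deg U hU) (I := t.asIdeal)
      (fun hle => hat (hle ha))
    exact Proj16.basicOpen_le_domOpen _ hd hf ((coneChart_mem_iff hz U hU hd f hf t).mpr hft)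

include hC hP hi in
/-- The composite of the pointed affine cone with the retraction, in a chart. -/
theorem retraction_coneImm_mem_iff
    (r : (RelProj.domQ (RelProj.QGrHom.ofHom ι hz.graded) pC chartC : Scheme.{u}) ⟶ P)
    (hr : RelProj.IsProjQMapOn (RelProj.QGrHom.ofHom ι hz.graded) p chart pC chartC
      (RelProj.domQ (RelProj.QGrHom.ofHom ι hz.graded) pC chartC) r)
    (U : Y.Opens) (hU : IsAffineOpen U) {d : ℕ} (hd : 0 < d) (f : 𝒮.presheaf.obj (op U)) (hf : f ∈ 𝒮.deg U hU d)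
    (y : (RelProj.domQ (RelProj.QGrHom.ofHom ι hz.graded) pC chartC : Scheme.{u}))
    (t : Spec (𝒮.presheaf.obj (op U))) (hy : y.1 = i (𝒮.toQCAlg.ι U hU t)) :
    r y ∈ (RelProj.emb p chart U hU) ''ᵁ Proj.basicOpen (𝒮.deg U hU) f ↔ f ∉ t.asIdeal := by
  rw [Proj16.apply_mem_image_iff (RelProj.QGrHom.ofHom ι hz.graded) hU hU (le_refl U) hd f hf hP hC r hr y
    (Proj.awayι (𝒮h.deg U hU) (RelCone.restrictTop 𝒮h z U) (hz.deg_z U hU) one_pos
      (Spec.map (CommRingCat.ofHom (hz.awayZToBase U hU)) t))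
    (by rw [hy, ← Scheme.Hom.comp_apply (𝒮.toQCAlg.ι U hU) i, hi U hU]; rfl), Proj16.gradedAt_self]
  exact coneChart_mem_iff hz U hU hd f hf t

end Groth.Agent.ConeX
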