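import Groth.Agent.ConeX.AffineCone
import Groth.Agent.RelSpecX.Spec

/-!
# The immersion of the affine cone in the projective cone: existence and properties
-/

universe u

open CategoryTheory CategoryTheory.Limits AlgebraicGeometry TopologicalSpace Opposite HomogeneousLocalization
open scoped HomogeneousIdeal

set_option backward.isDefEq.respectTransparency false
set_option backward.isDefEq.respectTransparency.types false
set_option linter.style.haveILetI false
set_option linter.unusedSectionVars false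

noncomputable section

namespace Groth.Agent.ConeX

open Groth.Agent

/-- An injective morphism that is an open immersion locally on the source is an open immersion. -/
lemma isOpenImmersion_of_injective {X Y : Scheme.{u}} (i : X ⟶ Y) (hinj : Function.Injective i)
    (H : ∀ x : X, ∃ (Z : Scheme.{u}) (j : Z ⟶ X), IsOpenImmersion j ∧ IsOpenImmersion (j ≫ i) ∧ x ∈ Set.range j) :
    IsOpenImmersion i := by
  rw [IsOpenImmersion.iff_isIso_stalkMap]
  refine ⟨.of_continuous_injective_isOpenMap i.continuous hinj ?_, fun x => ?_⟩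
  · intro O hO
    refine isOpen_iff_forall_mem_open.mpr ?_
    rintro _ ⟨x, hx, rfl⟩
    obtain ⟨Z, j, hj, hji, t, rfl⟩ := H x
    refine ⟨(j ≫ i) '' (j ⁻¹' O), ?_, (j ≫ i).isOpenEmbedding.isOpenMap _ (hO.preimage j.continuous), t, hx, rfl⟩
    rintro _ ⟨s, hs, rfl⟩
    exact ⟨j s, hs, rfl⟩
  · obtain ⟨Z, j, hj, hji, t, rfl⟩ := H x
    haveI : IsIso (i.stalkMap (j t) ≫ j.stalkMap t) := by
      rw [← Scheme.Hom.stalkMap_comp]
      infer_instance
    exact IsIso.of_isIso_comp_right (i.stalkMap (j t)) (j.stalkMap t)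

/-- A morphism is scheme-theoretically dominant if it is so on an affine cover, tested by injective ring maps. -/
lemma ker_eq_bot_of_charts {X Y : Scheme.{u}} (i : X ⟶ Y) {α : Type*} (R R' : α → CommRingCat.{u})
    (v : ∀ a, Spec (R a) ⟶ Y) [∀ a, IsOpenImmersion (v a)] (hcov : ∀ y : Y, ∃ a, y ∈ Set.range (v a))
    (j : ∀ a, R a ⟶ R' a) (hj : ∀ a, Function.Injective (j a).hom)
    (l : ∀ a, Spec (R' a) ⟶ X) (hl : ∀ a, l a ≫ i = Spec.map (j a) ≫ v a) : i.ker = ⊥ := by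
  refine Scheme.IdealSheafData.ext_of_iSup_eq_top (fun a => ⟨_, isAffineOpen_opensRange (v a)⟩)
    (eq_top_iff.mpr fun y _ => ?_) fun a => ?_
  · obtain ⟨a, ha⟩ := hcov y
    exact Opens.mem_iSup.mpr ⟨a, ha⟩
  refine (eq_bot_iff.mpr fun s hs => ?_ : _ = (⊥ : Ideal _)).trans (by simp)
  have hk := (l a ≫ i).ideal_ker_le _ ((l a).le_ker_comp i _ hs)
  rw [hl a, RingHom.mem_ker, Scheme.Hom.comp_app, CommRingCat.comp_apply] at hk
  have htop : v a ⁻¹ᵁ (v a).opensRange = ⊤ := by ext t; simp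
  haveI : IsIso ((v a).app (v a).opensRange) := (v a).isIso_app _ le_rfl
  refine (ConcreteCategory.bijective_of_isIso ((v a).app (v a).opensRange)).1 ?_
  rw [map_zero]
  have hinj : ∀ (W : (Spec (R a)).Opens), W = ⊤ →
      Function.Injective ((Spec.map (j a)).app W).hom := by
    rintro W rfl
    intro p q hpq
    apply (ConcreteCategory.bijective_of_isIso (Scheme.ΓSpecIso (R a)).hom).1
    apply hj a
    rw [← CommRingCat.comp_apply, ← CommRingCat.comp_apply, ← Scheme.ΓSpecIso_naturality (j a)]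
    simp only [CommRingCat.comp_apply]
    exact congrArg _ hpq
  exact hinj _ htop (hk.trans (map_zero _).symm)

section ring

variable {A : Type u} [CommRing A] {σ : Type u} [SetLike σ A] [AddSubgroupClass σ A] {𝒜 : ℕ → σ} [GradedRing 𝒜]

/-- Inverting a further homogeneous non-zero-divisor is injective. -/
lemma awayMap_injective {d e : ℕ} {f g x : A} (hf : f ∈ 𝒜 d) (hg : g ∈ 𝒜 e) (hx : x = f * g)
    (hreg : ∀ a, g * a = 0 → a = 0) : Function.Injective (awayMap 𝒜 hg hx) := by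
  rw [injective_iff_map_eq_zero]
  intro q hq
  obtain ⟨n, a, ha, rfl⟩ := q.mk_surjective 𝒜 hf
  have hv : (awayMap 𝒜 hg hx (Away.mk 𝒜 hf n a ha)).val = 0 := by rw [hq, val_zero]
  rw [awayMap_mk, Away.val_mk, ← Localization.mk_zero 1, Localization.mk_eq_mk_iff, Localization.r_iff_exists] at hv
  obtain ⟨⟨_, m, rfl⟩, hm⟩ := hv
  have hgreg : ∀ (k : ℕ) a, g ^ k * a = 0 → a = 0 := by
    intro k
    induction k with
    | zero => intro a h; simpa using h
    | succ k ih => intro a h; exact hreg a (ih _ (by rw [← h]; ring))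
  have hfa : f ^ m * a = 0 := hgreg (m + n) _ (by
    simp only [hx, mul_pow, Submonoid.coe_one, one_mul, mul_zero] at hm
    rw [← hm]; ring)
  apply val_injective
  rw [Away.val_mk, val_zero, ← Localization.mk_zero 1, Localization.mk_eq_mk_iff, Localization.r_iff_exists]
  exact ⟨⟨_, m, rfl⟩, by simpa using hfa⟩

end ring

variable {Y PC : Scheme.{u}} {𝒮 𝒮h : RelProj.QCGrAlg Y} {ι : 𝒮.toQCAlg ⟶ 𝒮h.toQCAlg}
  {z : 𝒮h.presheaf.obj (op ⊤)} (hz : RelCone.IsPolyOver 𝒮 𝒮h ι z) {pC : PC ⟶ Y}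
  {chartC : ∀ (U : Y.Opens) (hU : IsAffineOpen U), (((pC ⁻¹ᵁ U : PC.Opens) : Scheme.{u}) ≅ Proj (𝒮h.deg U hU))}
  (hC : RelProj.IsRelProj 𝒮h pC chartC)

include hz in
/-- The canonical identification is pinned by its values on homogeneous elements. -/
lemma eq_awayZToBase (U : Y.Opens) (hU : IsAffineOpen U)
    (θ : Away (𝒮h.deg U hU) (RelCone.restrictTop 𝒮h z U) →+* 𝒮.presheaf.obj (op U))
    (hθ : ∀ (q : Away (𝒮h.deg U hU) (RelCone.restrictTop 𝒮h z U)) (k : ℕ) (x : 𝒮.presheaf.obj (op U)),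
      x ∈ 𝒮.deg U hU k → q.val = Localization.mk ((ι.hom.app (op U)).hom x)
        ⟨RelCone.restrictTop 𝒮h z U ^ k, pow_mem (Submonoid.mem_powers _) k⟩ → θ q = x) :
    θ = hz.awayZToBase U hU := by
  let e := RingEquiv.ofBijective _ (bijective_awayZToBase hz U hU)
  suffices H : ∀ a, θ (e.symm a) = a from RingHom.ext fun q => by
    conv_lhs => rw [← e.symm_apply_apply q]
    rw [H]; rfl
  intro a
  classical
  rw [← DirectSum.sum_support_decompose (𝒮.deg U hU) a]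
  simp only [map_sum]
  refine Finset.sum_congr rfl fun k _ => ?_
  set x := ((DirectSum.decompose (𝒮.deg U hU) a k : 𝒮.deg U hU k) : 𝒮.presheaf.obj (op U))
  have hx : x ∈ 𝒮.deg U hU k := (DirectSum.decompose (𝒮.deg U hU) a k).2
  let q := Away.mk (𝒮h.deg U hU) (hz.deg_z U hU) k ((ι.hom.app (op U)).hom x)
    (by simpa using hz.graded U hU k x hx)
  have hq : q.val = Localization.mk ((ι.hom.app (op U)).hom x)
      ⟨RelCone.restrictTop 𝒮h z U ^ k, pow_mem (Submonoid.mem_powers _) k⟩ := Away.val_mk _ _ _ _ _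
  have he : e q = x := (hz.awayZToBase_of_val U hU q _ k hq).trans (hz.evalOne_ι U hU x)
  rw [← he, e.symm_apply_apply, he]
  exact hθ q k x hx hq

include hz in
/-- The identifications commute with restriction. -/
lemma awayZToBase_res {U V : Y.Opens} (hU : IsAffineOpen U) (hV : IsAffineOpen V) (i : V ≤ U)
    (w : 𝒮h.presheaf.obj (op V)) (hw : 𝒮h.res hU hV i (RelCone.restrictTop 𝒮h z U) = w)
    (ρ : Away (𝒮h.deg V hV) (𝒮h.res hU hV i (RelCone.restrictTop 𝒮h z U)) →+* 𝒮.presheaf.obj (op V))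
    (hρ : ∀ q (x : 𝒮h.presheaf.obj (op V)) (k : ℕ),
      q.val = Localization.mk x ⟨(𝒮h.res hU hV i (RelCone.restrictTop 𝒮h z U)) ^ k,
        pow_mem (Submonoid.mem_powers _) k⟩ → ρ q = hz.evalOne V hV x)
    (q : Away (𝒮h.deg U hU) (RelCone.restrictTop 𝒮h z U)) :
    ρ (Away.map (𝒮h.res hU hV i) (RelCone.restrictTop 𝒮h z U) q) =
      (𝒮.presheaf.map (homOfLE i).op).hom (hz.awayZToBase U hU q) := by
  obtain ⟨n, a, ha, rfl⟩ := q.mk_surjective (𝒮h.deg U hU) (hz.deg_z U hU)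
  rw [hz.awayZToBase_of_val U hU _ a n (Away.val_mk _ _ _ _ _), hρ _ (𝒮h.res hU hV i a) n (by
    erw [Away.map_mk]; exact Away.val_mk _ _ _ _ _)]
  refine RingHom.congr_fun (f := (hz.evalOne V hV).comp (𝒮h.presheaf.map (homOfLE i).op).hom)
    (g := (𝒮.presheaf.map (homOfLE i).op).hom.comp (hz.evalOne U hU))
    (hom_ext' hz U hU (fun b => ?_) ?_) a
  · rw [RingHom.comp_apply, RingHom.comp_apply, hz.evalOne_ι]
    rw [show (𝒮h.presheaf.map (homOfLE i).op).hom ((ι.hom.app (op U)).hom b) =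
      (ι.hom.app (op V)).hom ((𝒮.presheaf.map (homOfLE i).op).hom b) from
        (NatTrans.naturality_apply ι.hom (homOfLE i).op b).symm]
    exact hz.evalOne_ι V hV _
  · rw [RingHom.comp_apply, RingHom.comp_apply, hz.evalOne_z, map_one, res_restrictTop]
    exact hz.evalOne_z V hV

include hC in
/-- The chart of the affine cone in the projective cone, over smaller affine opens. -/
lemma coneChart_res {U V : Y.Opens} (hU : IsAffineOpen U) (hV : IsAffineOpen V) (i : V ≤ U) :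
    Spec.map (𝒮.presheaf.map (homOfLE i).op) ≫ Spec.map (CommRingCat.ofHom (hz.awayZToBase U hU)) ≫
        Proj.awayι (𝒮h.deg U hU) (RelCone.restrictTop 𝒮h z U) (hz.deg_z U hU) one_pos ≫
          RelProj.emb pC chartC U hU =
      Spec.map (CommRingCat.ofHom (hz.awayZToBase V hV)) ≫
        Proj.awayι (𝒮h.deg V hV) (RelCone.restrictTop 𝒮h z V) (hz.deg_z V hV) one_pos ≫
          RelProj.emb pC chartC V hV := by
  have main : ∀ (w : 𝒮h.presheaf.obj (op V)) (hwd : w ∈ 𝒮h.deg V hV 1),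
      w = RelCone.restrictTop 𝒮h z V → ∃ ρ : Away (𝒮h.deg V hV) w →+* 𝒮.presheaf.obj (op V),
      (∀ q (x : 𝒮h.presheaf.obj (op V)) (k : ℕ),
        q.val = Localization.mk x ⟨w ^ k, pow_mem (Submonoid.mem_powers _) k⟩ → ρ q = hz.evalOne V hV x) ∧
      Spec.map (CommRingCat.ofHom ρ) ≫ Proj.awayι (𝒮h.deg V hV) w hwd one_pos ≫ RelProj.emb pC chartC V hV =
        Spec.map (CommRingCat.ofHom (hz.awayZToBase V hV)) ≫
          Proj.awayι (𝒮h.deg V hV) (RelCone.restrictTop 𝒮h z V) (hz.deg_z V hV) one_pos ≫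
            RelProj.emb pC chartC V hV := by
    rintro w hwd rfl
    exact ⟨hz.awayZToBase V hV, hz.awayZToBase_of_val V hV, rfl⟩
  have hw : 𝒮h.res hU hV i (RelCone.restrictTop 𝒮h z U) = RelCone.restrictTop 𝒮h z V := res_restrictTop i
  obtain ⟨ρ, hρ, e⟩ := main _ ((𝒮h.res hU hV i).2 (hz.deg_z U hU)) hw
  refine Eq.trans ?_ e
  refine Eq.trans ?_ (congrArg (Spec.map (CommRingCat.ofHom ρ) ≫ ·)
    (SymX.awayι_res_emb hC hU hV i one_pos _ (hz.deg_z U hU))).symm
  rw [← Spec.map_comp_assoc, ← Spec.map_comp_assoc]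
  congr 2
  refine CommRingCat.hom_ext (RingHom.ext fun q => ?_)
  exact (awayZToBase_res hz hU hV i _ hw ρ hρ q).symm

include hC in
/-- The cone immersion exists. -/
theorem exists_coneImm : ∃ i : 𝒮.toQCAlg.spec ⟶ PC, RelCone.IsConeImm 𝒮 hz pC chartC i := by
  refine ⟨colimit.desc 𝒮.toQCAlg.glueData.functor (Cocone.mk PC
    { app := fun U => Spec.map (CommRingCat.ofHom (hz.awayZToBase U.1 U.2)) ≫
        Proj.awayι (𝒮h.deg U.1 U.2) (RelCone.restrictTop 𝒮h z U.1) (hz.deg_z U.1 U.2) one_pos ≫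
          RelProj.emb pC chartC U.1 U.2
      naturality := fun V U i => ?_ }), fun U hU => colimit.ι_desc (F := 𝒮.toQCAlg.glueData.functor) _ (⟨U, hU⟩ : Y.AffineZariskiSite)⟩
  exact (coneChart_res hz hC U.2 V.2 (Scheme.AffineZariskiSite.toOpens_mono i.le)).trans (Category.comp_id _).symm

include hz in
lemma isUnique_coneImm {i i' : 𝒮.toQCAlg.spec ⟶ PC} (hi : RelCone.IsConeImm 𝒮 hz pC chartC i)
    (hi' : RelCone.IsConeImm 𝒮 hz pC chartC i') : i = i' :=
  RelSpecX.spec_hom_ext fun y => by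
    obtain ⟨_, ⟨U, hU, rfl⟩, hyU, -⟩ := Y.isBasis_affineOpens.exists_subset_of_mem_open
      (Set.mem_univ y) isOpen_univ
    exact ⟨U, hU, hyU, (hi U hU).trans (hi' U hU).symm⟩

variable {i : 𝒮.toQCAlg.spec ⟶ PC} (hi : RelCone.IsConeImm 𝒮 hz pC chartC i)

include hi in
lemma isOpenImmersion_coneChart (U : Y.Opens) (hU : IsAffineOpen U) : IsOpenImmersion (𝒮.toQCAlg.ι U hU ≫ i) := by
  rw [hi U hU]
  haveI : IsIso (CommRingCat.ofHom (hz.awayZToBase U hU)) :=
    (ConcreteCategory.isIso_iff_bijective (CommRingCat.ofHom (hz.awayZToBase U hU))).mpr (bijective_awayZToBase hz U hU)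
  infer_instance

include hC hi in
theorem isOpenImmersion_coneImm : IsOpenImmersion i := by
  refine isOpenImmersion_of_injective i (fun x x' h => ?_) fun x => ?_
  · have hπ : 𝒮.toQCAlg.π x = 𝒮.toQCAlg.π x' := by
      rw [← coneImm_comp hz hC hi, Scheme.Hom.comp_apply, Scheme.Hom.comp_apply, h]
    obtain ⟨_, ⟨U, hU, rfl⟩, hxU, -⟩ := Y.isBasis_affineOpens.exists_subset_of_mem_open
      (Set.mem_univ (𝒮.toQCAlg.π x)) isOpen_univ
    obtain ⟨t, rfl⟩ : x ∈ (𝒮.toQCAlg.ι U hU).opensRange := (𝒮.toQCAlg.π_preimage U hU).le hxU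
    obtain ⟨t', rfl⟩ : x' ∈ (𝒮.toQCAlg.ι U hU).opensRange := (𝒮.toQCAlg.π_preimage U hU).le (show _ ∈ U from hπ ▸ hxU)
    haveI := isOpenImmersion_coneChart hz hi U hU
    exact congrArg _ ((𝒮.toQCAlg.ι U hU ≫ i).isOpenEmbedding.injective h)
  · obtain ⟨_, ⟨U, hU, rfl⟩, hxU, -⟩ := Y.isBasis_affineOpens.exists_subset_of_mem_open
      (Set.mem_univ (𝒮.toQCAlg.π x)) isOpen_univ
    exact ⟨_, 𝒮.toQCAlg.ι U hU, inferInstance, isOpenImmersion_coneChart hz hi U hU,
      (𝒮.toQCAlg.π_preimage U hU).le hxU⟩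

include hC hi in
theorem isAffineHom_coneImm : IsAffineHom i := by
  haveI := Proj16.isSeparated hC
  haveI : IsAffineHom (i ≫ pC) := by rw [coneImm_comp hz hC hi]; infer_instance
  exact IsAffineHom.of_comp i pC

include hC hi in
/-- The affine cone is scheme-theoretically dense in the projective cone. -/
theorem ker_coneImm : i.ker = ⊥ := by
  haveI := isOpenImmersion_coneImm hz hC hi
  let α := {t : Σ U : Y.affineOpens, ℕ × 𝒮h.presheaf.obj (op U.1) //
    0 < t.2.1 ∧ t.2.2 ∈ 𝒮h.deg t.1.1 t.1.2 t.2.1}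
  have hmul : ∀ a : α, a.1.2.2 * RelCone.restrictTop 𝒮h z a.1.1.1 ∈ 𝒮h.deg a.1.1.1 a.1.1.2 (a.1.2.1 + 1) :=
    fun a => SetLike.mul_mem_graded a.2.2 (hz.deg_z _ _)
  let v : ∀ a : α, Spec (CommRingCat.of (Away (𝒮h.deg a.1.1.1 a.1.1.2) a.1.2.2)) ⟶ PC := fun a =>
    Proj.awayι (𝒮h.deg a.1.1.1 a.1.1.2) a.1.2.2 a.2.2 a.2.1 ≫ RelProj.emb pC chartC a.1.1.1 a.1.1.2
  let k : ∀ a : α, Spec (CommRingCat.of (Away (𝒮h.deg a.1.1.1 a.1.1.2)
      (a.1.2.2 * RelCone.restrictTop 𝒮h z a.1.1.1))) ⟶ PC := fun a =>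
    Proj.awayι _ _ (hmul a) (Nat.succ_pos _) ≫ RelProj.emb pC chartC a.1.1.1 a.1.1.2
  have hk : ∀ a, Set.range (k a) ⊆ Set.range i := by
    rintro a _ ⟨t, rfl⟩
    refine (mem_range_coneImm_iff hz hC hi a.1.1.2 _).mpr ?_
    have := (Proj.opensRange_awayι _ _ (hmul a) (Nat.succ_pos _)).le ⟨t, rfl⟩
    rw [Proj.basicOpen_mul] at this
    exact this.2
  refine ker_eq_bot_of_charts i (α := α) _ _ v (fun x => ?_)
    (fun a => CommRingCat.ofHom (awayMap (𝒮h.deg a.1.1.1 a.1.1.2) (hz.deg_z a.1.1.1 a.1.1.2) rfl))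
    (fun a => ?_) (fun a => IsOpenImmersion.lift i (k a) (hk a)) fun a => ?_
  · obtain ⟨_, ⟨U, hU, rfl⟩, hxU, -⟩ := Y.isBasis_affineOpens.exists_subset_of_mem_open
      (Set.mem_univ (pC x)) isOpen_univ
    obtain ⟨y, rfl⟩ := (Proj16.opensRange_emb (p := pC) (chart := chartC) U hU).ge hxU
    obtain ⟨f, d, hd, hf, hyf, -⟩ := GrModX.exists_basicOpen_le (𝒮h.deg U hU) (V := ⊤) (y := y) trivial
    obtain ⟨t, ht⟩ := (Proj.opensRange_awayι _ f hf hd).ge hyf
    exact ⟨⟨⟨⟨U, hU⟩, d, f⟩, hd, hf⟩, t, congrArg (fun w => RelProj.emb pC chartC U hU w) ht⟩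
  · refine awayMap_injective a.2.2 (hz.deg_z a.1.1.1 a.1.1.2) rfl fun b hb => ?_
    obtain ⟨p, rfl⟩ := (bij_eval hz a.1.1.1 a.1.1.2).2 b
    have h0 : Polynomial.X * p = 0 := (bij_eval hz a.1.1.1 a.1.1.2).1 (by
      rw [map_mul, map_zero, ← hb]
      simp)
    rw [Polynomial.X_mul] at h0
    rw [Polynomial.monic_X.mul_left_eq_zero_iff.mp h0, map_zero]
  · rw [IsOpenImmersion.lift_fac]
    exact ((Proj.SpecMap_awayMap_awayι_assoc (𝒜 := 𝒮h.deg a.1.1.1 a.1.1.2) a.2.2 a.2.1 (hz.deg_z a.1.1.1 a.1.1.2) rfl _)).symm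

end Groth.Agent.ConeX
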