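import Groth.Agent.ConeX.Poly
import Mathlib.Algebra.Category.Ring.Constructions
import Mathlib.Algebra.Polynomial.Laurent
import Mathlib.RingTheory.PolynomialAlgebra
import Mathlib.RingTheory.TensorProduct.MonoidAlgebra
import Mathlib.AlgebraicGeometry.Morphisms.FiniteType
import Mathlib.AlgebraicGeometry.ResidueField
import Mathlib.AlgebraicGeometry.Morphisms.Affine
import Mathlib.AlgebraicGeometry.Pullbacks

/-!
# Morphisms that are locally a line or a punctured line over the base
-/

universe u

open CategoryTheory CategoryTheory.Limits AlgebraicGeometry HomogeneousLocalization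
open scoped HomogeneousIdeal

set_option backward.isDefEq.respectTransparency false
set_option backward.isDefEq.respectTransparency.types false
set_option linter.style.haveILetI false
set_option linter.unusedSectionVars false

noncomputable section

namespace Groth.Agent.ConeX

/-! ## Base change of polynomial and Laurent polynomial rings -/

lemma isPushout_poly {S K : Type u} [CommRing S] [CommRing K] (χ : S →+* K) :
    IsPushout (CommRingCat.ofHom (algebraMap S (Polynomial S))) (CommRingCat.ofHom χ)
      (CommRingCat.ofHom (Polynomial.mapRingHom χ)) (CommRingCat.ofHom (algebraMap K (Polynomial K))) := by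
  algebraize [χ, Polynomial.mapRingHom χ, (algebraMap K (Polynomial K)).comp χ]
  haveI : IsScalarTower S (Polynomial S) (Polynomial K) :=
    IsScalarTower.of_algebraMap_eq fun r => by
      show Polynomial.C (χ r) = Polynomial.mapRingHom χ (Polynomial.C r)
      simp
  exact (CommRingCat.isPushout_iff_isPushout (R := S) (S := K) (R' := Polynomial S) (S' := Polynomial K)).mpr
    inferInstance

/-- Base change of the coefficients of Laurent polynomials. -/
def lmap {S K : Type u} [CommRing S] [CommRing K] (χ : S →+* K) : LaurentPolynomial S →+* LaurentPolynomial K :=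
  AddMonoidAlgebra.mapRingHom ℤ χ

lemma isPushout_laurent {S K : Type u} [CommRing S] [CommRing K] (χ : S →+* K) :
    IsPushout (CommRingCat.ofHom (algebraMap S (LaurentPolynomial S))) (CommRingCat.ofHom χ)
      (CommRingCat.ofHom (lmap χ)) (CommRingCat.ofHom (algebraMap K (LaurentPolynomial K))) := by
  algebraize [χ]
  letI : Algebra (LaurentPolynomial S) (LaurentPolynomial K) := (lmap χ).toAlgebra
  haveI : IsScalarTower S (LaurentPolynomial S) (LaurentPolynomial K) :=
    IsScalarTower.of_algebraMap_eq fun r => by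
      show algebraMap S (LaurentPolynomial K) r = lmap χ (algebraMap S (LaurentPolynomial S) r)
      show AddMonoidAlgebra.single 0 (χ r) = AddMonoidAlgebra.mapRingHom ℤ χ (AddMonoidAlgebra.single 0 r)
      rw [AddMonoidAlgebra.mapRingHom_single]
  exact (CommRingCat.isPushout_iff_isPushout (R := S) (S := K) (R' := LaurentPolynomial S)
    (S' := LaurentPolynomial K)).mpr inferInstance

lemma finiteType_laurent (S : Type u) [CommRing S] : Algebra.FiniteType S (LaurentPolynomial S) :=
  inferInstance

/-! ## Geometry of a chartwise base change -/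

variable {E P : Scheme.{u}} (r : E ⟶ P)

/-- A chart whose range is the preimage of an open chart below gives a cartesian square. -/
lemma isPullback_of_range_eq {A B : Scheme.{u}} (c : B ⟶ E) (s : B ⟶ A) (j : A ⟶ P) [IsOpenImmersion c]
    [IsOpenImmersion j] (w : c ≫ r = s ≫ j) (hr : Set.range c = r ⁻¹' Set.range j) : IsPullback c s r j := by
  haveI : IsOpenImmersion (pullback.fst r j) := inferInstance
  have hrange : Set.range c = Set.range (pullback.fst r j) := by
    rw [hr, IsOpenImmersion.range_pullbackFst]; rfl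
  refine IsPullback.of_iso_pullback ⟨w⟩ (IsOpenImmersion.isoOfRangeEq c (pullback.fst r j) hrange)
    (IsOpenImmersion.isoOfRangeEq_hom_fac _ _ _) ?_
  rw [← cancel_mono j, Category.assoc, ← pullback.condition, IsOpenImmersion.isoOfRangeEq_hom_fac_assoc, w]

/-- The fibre over a point inside a chart. -/
lemma exists_fibre_iso {S : CommRingCat.{u}} (j : Spec S ⟶ P) [IsOpenImmersion j] (x : P) (hx : x ∈ Set.range j)
    {B : CommRingCat.{u}} (str : S ⟶ B) (c : Spec B ⟶ E) (sq : IsPullback c (Spec.map str) r j)
    {B' : CommRingCat.{u}} (str' : CommRingCat.of (P.residueField x) ⟶ B')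
    (m : (S ⟶ CommRingCat.of (P.residueField x)) → (B ⟶ B'))
    (hm : ∀ χ, IsPushout str χ (m χ) str') :
    ∃ e : pullback r (P.fromSpecResidueField x) ≅ Spec B',
      e.hom ≫ Spec.map str' = pullback.snd r (P.fromSpecResidueField x) := by
  obtain ⟨h, hh⟩ : ∃ h : Spec (CommRingCat.of (P.residueField x)) ⟶ Spec S, h ≫ j = P.fromSpecResidueField x :=
    ⟨IsOpenImmersion.lift j _ (by erw [Scheme.range_fromSpecResidueField]; exact Set.singleton_subset_iff.mpr hx),
      IsOpenImmersion.lift_fac _ _ _⟩
  obtain ⟨χ, rfl⟩ := Spec.map_surjective h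
  have sq' := ((isPullback_SpecMap_of_isPushout _ _ _ _ (hm χ)).paste_horiz sq)
  rw [hh] at sq'
  exact ⟨sq'.isoPullback.symm, by rw [Iso.symm_hom, Iso.inv_comp_eq, IsPullback.isoPullback_hom_snd]⟩

/-- Finite type is checked on such charts. -/
lemma finiteType_of_charts
    (H : ∀ x : P, ∃ (S B : CommRingCat.{u}) (j : Spec S ⟶ P) (str : S ⟶ B) (c : Spec B ⟶ E),
      IsOpenImmersion j ∧ x ∈ Set.range j ∧ str.hom.FiniteType ∧ IsPullback c (Spec.map str) r j) :
    LocallyOfFiniteType r ∧ QuasiCompact r := by
  choose S B j str c hj hx hft sq using H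
  let 𝒰 : P.OpenCover :=
    { I₀ := P
      X := fun x => Spec (S x)
      f := j
      mem₀ := by
        rw [Scheme.ofArrows_mem_precoverage_iff]
        exact ⟨fun x => ⟨x, hx x⟩, hj⟩ }
  have key : ∀ (Q : MorphismProperty Scheme.{u}) [IsZariskiLocalAtTarget Q],
      (∀ x, Q (Spec.map (str x))) → Q r := fun Q _ hQ => by
    rw [IsZariskiLocalAtTarget.iff_of_openCover (P := Q) 𝒰]
    intro x
    show Q (pullback.snd r (j x))
    rw [← (sq x).isoPullback_inv_snd, MorphismProperty.cancel_left_of_respectsIso Q]
    exact hQ x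
  exact ⟨key @LocallyOfFiniteType fun x => (HasRingHomProperty.Spec_iff (P := @LocallyOfFiniteType)).mpr (hft x),
    key @QuasiCompact fun x => inferInstance⟩

/-! ## The chart rings -/

lemma lift_mk_mul {R S : Type u} [CommRing R] [CommRing S] (s : R) (g : R →+* S) (hg : IsUnit (g s)) (a : R)
    (n : ℕ) (h : s ^ n ∈ Submonoid.powers s) :
    IsLocalization.Away.lift (S := Localization.Away s) s hg (Localization.mk a ⟨s ^ n, h⟩) * g s ^ n = g a := by
  rw [← map_pow g, ← IsLocalization.Away.lift_eq (S := Localization.Away s) s hg (s ^ n), ← map_mul,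
    Localization.mk_eq_mk', IsLocalization.mk'_spec, IsLocalization.Away.lift_eq]

/-- Powers of a monomial unit. -/
lemma zpow_monomial {R : Type u} [CommRing R] (u : Rˣ) (v : (LaurentPolynomial R)ˣ)
    (hv : (v : LaurentPolynomial R) = LaurentPolynomial.C (u : R) * LaurentPolynomial.T 1) (n : ℤ) :
    ((v ^ n : (LaurentPolynomial R)ˣ) : LaurentPolynomial R) =
      LaurentPolynomial.C ((u ^ n : Rˣ) : R) * LaurentPolynomial.T n := by
  induction n with
  | zero => simp
  | succ k ih =>
    rw [zpow_add_one, zpow_add_one, Units.val_mul, Units.val_mul, ih, hv, map_mul, LaurentPolynomial.T_add]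
    ring
  | pred k ih =>
    refine v.isUnit.mul_left_inj.mp ?_
    rw [← Units.val_mul, ← zpow_add_one, sub_add_cancel, ih, hv]
    conv_lhs => rw [show (-(k : ℤ)) = (-(k : ℤ) - 1) + 1 by ring, zpow_add_one, Units.val_mul, map_mul,
      LaurentPolynomial.T_add]
    ring

variable {A σ : Type u} [CommRing A] [SetLike σ A] [AddSubgroupClass σ A] {𝒜 : ℕ → σ} [GradedRing 𝒜]
  {B τ : Type u} [CommRing B] [SetLike τ B] [AddSubgroupClass τ B] {ℬ : ℕ → τ} [GradedRing ℬ]
  (φ : 𝒜 →+*ᵍ ℬ) (z : B) (hz : z ∈ ℬ 1)
  (hbij : Function.Bijective (Polynomial.eval₂RingHom φ.toRingHom z))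

/-- The chart of a line bundle over a standard open, on rings. -/
def linePiece (f : A) (hf : f ∈ 𝒜 1) : Polynomial (Away 𝒜 f) →+* Away ℬ (φ f) :=
  Polynomial.eval₂RingHom (Away.map φ f) (Away.mk ℬ (φ.2 hf) 1 z (by simpa using hz))

include hbij in
theorem bijective_linePiece (f : A) (hf : f ∈ 𝒜 1) : Function.Bijective (linePiece φ z hz f hf) := by
  let e : Polynomial A ≃+* B := RingEquiv.ofBijective _ hbij
  let Φ₀ : B →+* Polynomial (Localization.Away f) :=
    (Polynomial.eval₂RingHom (Polynomial.C.comp (algebraMap A (Localization.Away f)))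
      (Polynomial.C (algebraMap A (Localization.Away f) f) * Polynomial.X)).comp e.symm.toRingHom
  have hΦφ : ∀ a, Φ₀ (φ a) = Polynomial.C (algebraMap A (Localization.Away f) a) := fun a => by
    have : e.symm (φ a) = Polynomial.C a := e.symm_apply_eq.mpr (Polynomial.eval₂_C _ _).symm
    simp [Φ₀, this]
  have hΦz : Φ₀ z = Polynomial.C (algebraMap A (Localization.Away f) f) * Polynomial.X := by
    have : e.symm z = Polynomial.X := e.symm_apply_eq.mpr (Polynomial.eval₂_X _ _).symm
    simp [Φ₀, this]
  have hu : IsUnit (Φ₀ (φ f)) := by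
    rw [hΦφ]; exact (IsLocalization.Away.algebraMap_isUnit f).map Polynomial.C
  let Φ : Away ℬ (φ f) →+* Polynomial (Localization.Away f) :=
    (IsLocalization.Away.lift (φ f) hu).comp (algebraMap _ (Localization.Away (φ f)))
  have hΦmk : ∀ (n : ℕ) (b : B) (hb : b ∈ ℬ (n • 1)),
      Φ (Away.mk ℬ (φ.2 hf) n b hb) * Φ₀ (φ f) ^ n = Φ₀ b := fun n b hb => by
    show IsLocalization.Away.lift (φ f) hu ((Away.mk ℬ (φ.2 hf) n b hb).val) * _ = _
    rw [Away.val_mk]
    exact lift_mk_mul _ _ hu b n _
  have hcomp : Φ.comp (linePiece φ z hz f hf) =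
      Polynomial.mapRingHom (algebraMap (Away 𝒜 f) (Localization.Away f)) := by
    refine Polynomial.ringHom_ext' (RingHom.ext fun q => ?_) ?_
    · obtain ⟨n, a, ha, rfl⟩ := q.mk_surjective 𝒜 hf
      refine (hu.pow n).mul_left_inj.mp ?_
      simp only [RingHom.comp_apply, linePiece, Polynomial.coe_eval₂RingHom, Polynomial.eval₂_C,
        Polynomial.coe_mapRingHom, Polynomial.map_C]
      erw [Away.map_mk, hΦmk]
      rw [hΦφ, hΦφ, ← map_pow, ← map_mul, HomogeneousLocalization.algebraMap_apply, Away.val_mk,
        ← map_pow, Localization.mk_eq_mk', IsLocalization.mk'_spec]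
    · refine (hu.pow 1).mul_left_inj.mp ?_
      simp only [RingHom.comp_apply, linePiece, Polynomial.coe_eval₂RingHom, Polynomial.eval₂_X,
        Polynomial.coe_mapRingHom, Polynomial.map_X]
      rw [hΦmk, hΦz, pow_one, hΦφ, mul_comm]
  constructor
  · have := Polynomial.map_injective (algebraMap (Away 𝒜 f) (Localization.Away f))
      (fun a b h => HomogeneousLocalization.val_injective _ (by simpa [HomogeneousLocalization.algebraMap_apply] using h))
    rw [← Polynomial.coe_mapRingHom, ← hcomp, RingHom.coe_comp] at this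
    exact this.of_comp
  · intro q
    obtain ⟨n, b, hb, rfl⟩ := q.mk_surjective ℬ (φ.2 hf)
    obtain ⟨p, rfl⟩ := hbij.2 b
    have hb' : p.eval₂ φ.toRingHom z ∈ ℬ n := by simpa using hb
    refine ⟨∑ i ∈ p.support, if h : i ≤ n then Polynomial.monomial i
      (Away.mk 𝒜 hf (n - i) (p.coeff i) (by simpa using (coeff_mem_of_mem φ z hz hbij hb' i).1 h)) else 0, ?_⟩
    apply HomogeneousLocalization.val_injective
    rw [map_sum, Away.val_mk, Polynomial.coe_eval₂RingHom, Polynomial.eval₂_eq_sum, Polynomial.sum_def,
      Localization.mk_sum, ← HomogeneousLocalization.algebraMap_apply, map_sum]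
    refine Finset.sum_congr rfl fun i hi => ?_
    split
    · rename_i hin
      rw [linePiece, Polynomial.coe_eval₂RingHom, Polynomial.eval₂_monomial,
        HomogeneousLocalization.algebraMap_apply, HomogeneousLocalization.val_mul, HomogeneousLocalization.val_pow]
      erw [Away.map_mk]
      rw [Away.val_mk, Away.val_mk, Localization.mk_pow, Localization.mk_mul]
      congr 1
      refine Subtype.ext ?_
      show φ f ^ (n - i) * (φ f ^ 1) ^ i = φ f ^ n
      rw [pow_one, ← pow_add]; congr 1; omega
    · exact absurd ((coeff_mem_of_mem φ z hz hbij hb' i).2 (by omega)) (Polynomial.mem_support_iff.mp hi)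

/-- The chart of a punctured line bundle over a standard open, on rings. -/
def laurentPiece (f : A) : LaurentPolynomial (Away 𝒜 f) →+* Localization.Away f :=
  LaurentPolynomial.eval₂ (algebraMap (Away 𝒜 f) (Localization.Away f))
    (IsLocalization.Away.algebraMap_isUnit (S := Localization.Away f) f).unit

/-- A homogeneous element as a Laurent monomial. -/
def gradeHom (f : A) : A →+* LaurentPolynomial (Localization.Away f) :=
  (DirectSum.toSemiring
    (fun k : ℕ => (AddMonoidHom.mulRight (LaurentPolynomial.T (k : ℤ))).comp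
      (((LaurentPolynomial.C (R := Localization.Away f)).comp (algebraMap A _)).toAddMonoidHom.comp
        (AddSubmonoidClass.subtype (𝒜 k))))
    (by
      simp only [AddMonoidHom.coe_comp, Function.comp_apply, AddMonoidHom.coe_mulRight, RingHom.toAddMonoidHom_eq_coe,
        AddMonoidHom.coe_coe, RingHom.coe_comp, AddSubmonoidClass.coe_subtype]
      simp)
    (fun {i j} a b => by
      simp only [AddMonoidHom.coe_comp, Function.comp_apply, AddMonoidHom.coe_mulRight, RingHom.toAddMonoidHom_eq_coe,
        AddMonoidHom.coe_coe, RingHom.coe_comp, AddSubmonoidClass.coe_subtype]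
      rw [Nat.cast_add, LaurentPolynomial.T_add]
      show LaurentPolynomial.C (algebraMap A _ ((a : A) * (b : A))) * _ = _
      rw [map_mul, map_mul]; ring)).comp (DirectSum.decomposeRingEquiv 𝒜).toRingHom

lemma gradeHom_of_mem (f : A) {k : ℕ} {a : A} (ha : a ∈ 𝒜 k) :
    gradeHom (𝒜 := 𝒜) f a =
      LaurentPolynomial.C (algebraMap A (Localization.Away f) a) * LaurentPolynomial.T (k : ℤ) := by
  rw [gradeHom, RingHom.comp_apply]
  change (DirectSum.toSemiring _ _ _) (DirectSum.decompose 𝒜 a) = _
  rw [DirectSum.decompose_of_mem 𝒜 ha, DirectSum.toSemiring_of]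
  rfl

theorem bijective_laurentPiece (f : A) (hf : f ∈ 𝒜 1) : Function.Bijective (laurentPiece (𝒜 := 𝒜) f) := by
  classical
  set u := (IsLocalization.Away.algebraMap_isUnit (S := Localization.Away f) f).unit with hu
  have hTf : IsUnit (gradeHom (𝒜 := 𝒜) f f) := by
    rw [gradeHom_of_mem f hf]
    exact ((IsLocalization.Away.algebraMap_isUnit f).map _).mul (LaurentPolynomial.isUnit_T _)
  let Φ : Localization.Away f →+* LaurentPolynomial (Localization.Away f) := IsLocalization.Away.lift f hTf
  constructor
  · rw [injective_iff_map_eq_zero]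
    intro p hp
    let D : LaurentPolynomial (Away 𝒜 f) →+* LaurentPolynomial (Localization.Away f) :=
      LaurentPolynomial.eval₂ (LaurentPolynomial.C.comp (algebraMap (Away 𝒜 f) (Localization.Away f))) hTf.unit
    have hv : (hTf.unit : LaurentPolynomial (Localization.Away f)) =
        LaurentPolynomial.C (u : Localization.Away f) * LaurentPolynomial.T 1 := by
      rw [IsUnit.unit_spec, gradeHom_of_mem f hf, hu, IsUnit.unit_spec, Nat.cast_one]
    have key : ∀ (p : LaurentPolynomial (Away 𝒜 f)) (i : ℤ), (Φ (laurentPiece (𝒜 := 𝒜) f p)).coeff i =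
        algebraMap (Away 𝒜 f) (Localization.Away f) (p.coeff i) * ((u ^ i : _ˣ) : Localization.Away f) := by
      intro p
      induction p using LaurentPolynomial.induction_on' with
      | add p q hp hq => intro i; simp [map_add, hp, hq, add_mul]
      | C_mul_T n c =>
        intro i
        obtain ⟨k, a, ha, rfl⟩ := c.mk_surjective 𝒜 hf
        have hC : Φ (algebraMap (Away 𝒜 f) (Localization.Away f) (Away.mk 𝒜 hf k a ha)) =
            LaurentPolynomial.C (algebraMap (Away 𝒜 f) (Localization.Away f) (Away.mk 𝒜 hf k a ha)) := by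
          refine (hTf.pow k).mul_left_inj.mp ?_
          rw [HomogeneousLocalization.algebraMap_apply, Away.val_mk]
          refine (lift_mk_mul f _ hTf a k _).trans ?_
          rw [← map_pow, gradeHom_of_mem f (show f ^ k ∈ 𝒜 (k • 1) from SetLike.pow_mem_graded k hf),
            gradeHom_of_mem f ha, ← mul_assoc, ← map_mul, Localization.mk_eq_mk', IsLocalization.mk'_spec]
        have hU : Φ ((u ^ n : _ˣ) : Localization.Away f) =
            LaurentPolynomial.C ((u ^ n : _ˣ) : Localization.Away f) * LaurentPolynomial.T n := by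
          rw [← zpow_monomial u _ hv n]
          have : Units.map Φ.toMonoidHom u = hTf.unit := by
            ext1
            simp [Φ, hu, IsLocalization.Away.lift_eq]
          rw [← this, ← map_zpow]; rfl
        rw [laurentPiece, LaurentPolynomial.eval₂_C_mul_T, map_mul, hC, hU, ← mul_assoc, ← map_mul,
          ← LaurentPolynomial.single_eq_C_mul_T, ← LaurentPolynomial.single_eq_C_mul_T]
        simp only [AddMonoidAlgebra.coeff_single, Finsupp.single_apply]
        split
        · subst_vars; rfl
        · simp
    refine AddMonoidAlgebra.ext (Finsupp.ext fun i => ?_)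
    have h := key p i
    rw [hp, map_zero] at h
    apply HomogeneousLocalization.val_injective
    have h' := (Units.mul_left_eq_zero (u ^ i)).mp (by simpa using h.symm)
    simpa [HomogeneousLocalization.algebraMap_apply] using h'
  · intro q
    suffices H : ∀ a : A, algebraMap A (Localization.Away f) a ∈ (laurentPiece (𝒜 := 𝒜) f).range by
      obtain ⟨n, a, hq⟩ := IsLocalization.Away.surj f q
      obtain ⟨w, hw⟩ := H a
      refine ⟨w * LaurentPolynomial.T (-(n : ℤ)), ?_⟩
      refine ((IsLocalization.Away.algebraMap_isUnit (S := Localization.Away f) f).pow n).mul_left_inj.mp ?_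
      rw [hq, map_mul, hw, laurentPiece, LaurentPolynomial.eval₂_T, zpow_neg, zpow_natCast, mul_assoc,
        ← inv_pow, Units.val_pow_eq_pow_val, ← mul_pow, IsUnit.val_inv_mul, one_pow, mul_one]
    intro a
    rw [← DirectSum.sum_support_decompose 𝒜 a, map_sum]
    refine sum_mem fun k _ => ?_
    set x := ((DirectSum.decompose 𝒜 a k : 𝒜 k) : A)
    refine ⟨LaurentPolynomial.C (Away.mk 𝒜 hf k x (by rw [smul_eq_mul, mul_one]; exact (DirectSum.decompose 𝒜 a k).2)) *
      LaurentPolynomial.T (k : ℤ), ?_⟩
    rw [laurentPiece, LaurentPolynomial.eval₂_C_mul_T, HomogeneousLocalization.algebraMap_apply, Away.val_mk,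
      zpow_natCast, Units.val_pow_eq_pow_val, IsUnit.unit_spec, Localization.mk_eq_mk', ← map_pow,
      IsLocalization.mk'_spec]

end Groth.Agent.ConeX
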