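import Groth.Agent.ConeX.FibreCharts
import Groth.Agent.ConeX.AffineCone
import Groth.Agent.Proj16.RelMapQ

/-!
# The charts of the retractions of the pointed cones over a general base
-/

universe u

open CategoryTheory CategoryTheory.Limits AlgebraicGeometry TopologicalSpace Opposite HomogeneousLocalization
open scoped HomogeneousIdeal

set_option backward.isDefEq.respectTransparency false
set_option backward.isDefEq.respectTransparency.types false
set_option linter.style.haveILetI false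
set_option linter.unusedSectionVars false

noncomputable section

namespace Groth.Agent.ConeX

open Groth.Agent

/-- If the degree zero and one parts generate, some element of degree one is off every point of `Proj`. -/
lemma exists_degOne_notMem {A σ : Type u} [CommRing A] [SetLike σ A] [AddSubgroupClass σ A] {𝒜 : ℕ → σ}
    [GradedRing 𝒜] (h : Subring.closure ((𝒜 0 : Set A) ∪ (𝒜 1 : Set A)) = ⊤) (y : Proj 𝒜) :
    ∃ f ∈ 𝒜 1, y ∈ Proj.basicOpen 𝒜 f := by
  classical
  by_contra! H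
  have hI : ∀ f ∈ 𝒜 1, f ∈ y.asHomogeneousIdeal.toIdeal := fun f hf => not_not.mp fun h' => H f hf h'
  refine y.not_irrelevant_le fun a ha => ?_
  have key : ∀ a : A, a - GradedRing.proj 𝒜 0 a ∈ y.asHomogeneousIdeal.toIdeal := by
    intro a
    have ha : a ∈ Subring.closure ((𝒜 0 : Set A) ∪ (𝒜 1 : Set A)) := h.symm ▸ Subring.mem_top a
    induction ha using Subring.closure_induction with
    | mem x hx =>
      rcases hx with hx | hx
      · rw [GradedRing.proj_apply, DirectSum.decompose_of_mem_same 𝒜 hx, sub_self]; exact zero_mem _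
      · rw [GradedRing.proj_apply, DirectSum.decompose_of_mem_ne 𝒜 hx one_ne_zero, sub_zero]; exact hI x hx
    | zero => simp
    | one => rw [GradedRing.proj_apply, DirectSum.decompose_of_mem_same 𝒜 SetLike.GradedOne.one_mem, sub_self]; exact zero_mem _
    | add x y _ _ hx hy => rw [map_add]; convert add_mem hx hy using 1; ring
    | neg x _ hx => rw [map_neg]; convert neg_mem hx using 1; ring
    | mul x y _ _ hx hy =>
      have e : GradedRing.proj 𝒜 0 (x * y) = GradedRing.proj 𝒜 0 x * GradedRing.proj 𝒜 0 y :=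
        map_mul (GradedRing.projZeroRingHom 𝒜) x y
      rw [e]
      convert add_mem (Ideal.mul_mem_right y _ hx) (Ideal.mul_mem_left _ (GradedRing.proj 𝒜 0 x) hy) using 1
      ring
  have := key a
  rwa [show GradedRing.proj 𝒜 0 a = 0 from (HomogeneousIdeal.mem_irrelevant_iff 𝒜 a).mp ha, sub_zero] at this

section ringv

variable {A σ : Type u} [CommRing A] [SetLike σ A] [AddSubgroupClass σ A] {𝒜 : ℕ → σ} [GradedRing 𝒜]
  {B τ : Type u} [CommRing B] [SetLike τ B] [AddSubgroupClass τ B] {ℬ : ℕ → τ} [GradedRing ℬ]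
  (φ : 𝒜 →+*ᵍ ℬ) (z : B) (hz : z ∈ ℬ 1) (ev : B →+* A) (hev : ∀ a, ev (φ a) = a) (hevz : ev z = 1)
  (f : A) (hf : f ∈ 𝒜 1)

/-- The overlap of the standard open with the affine cone, on rings. -/
def overlapHom : Away ℬ (φ f * z) →+* Localization.Away f :=
  (IsLocalization.Away.lift (S := Localization.Away (φ f * z)) (φ f * z)
    (g := (algebraMap A (Localization.Away f)).comp ev)
    (by rw [RingHom.comp_apply, map_mul, hev, hevz, mul_one]; exact IsLocalization.Away.algebraMap_isUnit f)).comp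
    (algebraMap (Away ℬ (φ f * z)) (Localization.Away (φ f * z)))

lemma overlapHom_mk {d : ℕ} (hd : φ f * z ∈ ℬ d) (n : ℕ) (b : B) (hb : b ∈ ℬ (n • d)) :
    overlapHom φ z ev hev hevz f (Away.mk ℬ hd n b hb) * algebraMap A (Localization.Away f) f ^ n =
      algebraMap A (Localization.Away f) (ev b) := by
  have hg : ((algebraMap A (Localization.Away f)).comp ev) (φ f * z) = algebraMap A (Localization.Away f) f := by
    rw [RingHom.comp_apply, map_mul, hev, hevz, mul_one]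
  rw [overlapHom, RingHom.comp_apply, HomogeneousLocalization.algebraMap_apply, Away.val_mk]
  conv_lhs => arg 2; rw [← hg]
  exact lift_mk_mul _ ((algebraMap A (Localization.Away f)).comp ev) _ b n _

include hz hf in
lemma overlapHom_awayMap_z (ρ : Away ℬ z →+* A)
    (hρ : ∀ (n : ℕ) (b : B) (hb : b ∈ ℬ (n • 1)), ρ (Away.mk ℬ hz n b hb) = ev b) :
    (overlapHom φ z ev hev hevz f).comp (awayMap ℬ (show φ f ∈ ℬ 1 from φ.2 hf) (mul_comm (φ f) z)) =
      (algebraMap A (Localization.Away f)).comp ρ := by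
  refine RingHom.ext fun q => ?_
  obtain ⟨n, b, hb, rfl⟩ := q.mk_surjective ℬ hz
  refine ((IsLocalization.Away.algebraMap_isUnit (S := Localization.Away f) f).pow n).mul_left_inj.mp ?_
  rw [RingHom.comp_apply, RingHom.comp_apply, awayMap_mk, overlapHom_mk, hρ, map_mul, map_mul, map_pow, map_pow, hev]

include hz hf in
lemma overlapHom_awayMap_f :
    ((overlapHom φ z ev hev hevz f).comp (awayMap ℬ hz rfl)).comp (Away.map φ f) =
      algebraMap (Away 𝒜 f) (Localization.Away f) := by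
  refine RingHom.ext fun q => ?_
  obtain ⟨n, a, ha, rfl⟩ := q.mk_surjective 𝒜 hf
  refine ((IsLocalization.Away.algebraMap_isUnit (S := Localization.Away f) f).pow n).mul_left_inj.mp ?_
  rw [RingHom.comp_apply, RingHom.comp_apply]
  erw [Away.map_mk, awayMap_mk]
  rw [overlapHom_mk, map_mul, map_pow, hev, hevz, one_pow, mul_one, HomogeneousLocalization.algebraMap_apply,
    Away.val_mk, ← map_pow, Localization.mk_eq_mk', IsLocalization.mk'_spec]

end ringv

variable {Y PC P : Scheme.{u}} {𝒮 𝒮h : RelProj.QCGrAlg Y} {ι : 𝒮.toQCAlg ⟶ 𝒮h.toQCAlg}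
  {z : 𝒮h.presheaf.obj (op ⊤)} (hz : RelCone.IsPolyOver 𝒮 𝒮h ι z) {pC : PC ⟶ Y}
  {chartC : ∀ (U : Y.Opens) (hU : IsAffineOpen U), (((pC ⁻¹ᵁ U : PC.Opens) : Scheme.{u}) ≅ Proj (𝒮h.deg U hU))}
  (hC : RelProj.IsRelProj 𝒮h pC chartC) {p : P ⟶ Y}
  {chart : ∀ (U : Y.Opens) (hU : IsAffineOpen U), (((p ⁻¹ᵁ U : P.Opens) : Scheme.{u}) ≅ Proj (𝒮.deg U hU))}
  (hP : RelProj.IsRelProj 𝒮 p chart)

include hC hP in
/-- The pointed projective cone is a line over each standard open. -/
theorem exists_lineChart (W : PC.Opens) (hW : W = RelProj.domQ (RelProj.QGrHom.ofHom ι hz.graded) pC chartC)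
    (r : (W : Scheme.{u}) ⟶ P) (hr : ChartPred ι hz.graded p pC chart chartC W r)
    (U : Y.Opens) (hU : IsAffineOpen U) (f : 𝒮.presheaf.obj (op U)) (hf : f ∈ 𝒮.deg U hU 1) :
    ∃ (c₀ : Spec (CommRingCat.of (Away (𝒮h.deg U hU) (RelProj.gradedHomAt ι hz.graded U hU f))) ⟶ (W : Scheme.{u})),
      IsOpenImmersion c₀ ∧
      c₀ ≫ W.ι = Proj.awayι (𝒮h.deg U hU) (RelProj.gradedHomAt ι hz.graded U hU f)
          ((RelProj.gradedHomAt ι hz.graded U hU).2 hf) one_pos ≫ RelProj.emb pC chartC U hU ∧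
      c₀ ≫ r = Spec.map (CommRingCat.ofHom (Away.map (RelProj.gradedHomAt ι hz.graded U hU) f)) ≫
          Proj.awayι (𝒮.deg U hU) f hf one_pos ≫ RelProj.emb p chart U hU ∧
      Set.range c₀ = r ⁻¹' Set.range (Proj.awayι (𝒮.deg U hU) f hf one_pos ≫ RelProj.emb p chart U hU) := by
  subst hW
  have hr' := (chartPred_iff hP _ r).mp hr
  obtain ⟨c, hc₁, hc₂⟩ := Proj16.exists_chart ι hz.graded hC hP r hr' U hU one_pos f hf
  haveI : IsOpenImmersion c := by
    haveI : IsOpenImmersion (c ≫ (RelProj.domQ (RelProj.QGrHom.ofHom ι hz.graded) pC chartC).ι) := by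
      rw [hc₁]; infer_instance
    exact IsOpenImmersion.of_comp _ (RelProj.domQ (RelProj.QGrHom.ofHom ι hz.graded) pC chartC).ι
  refine ⟨c, inferInstance, hc₁, hc₂, Set.Subset.antisymm ?_ ?_⟩
  · rintro _ ⟨t, rfl⟩
    exact ⟨Spec.map (CommRingCat.ofHom (Away.map (RelProj.gradedHomAt ι hz.graded U hU) f)) t, by
      rw [← Scheme.Hom.comp_apply, ← Scheme.Hom.comp_apply, hc₂]⟩
  · rintro w ⟨u₀, hu₀⟩
    have hcomp := Proj16.projQMapOn_comp ι hz.graded hC hP r hr'
    have hwU : pC w.1 ∈ U := by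
      have h1 : p (r w) ∈ U := by
        rw [← hu₀, Scheme.Hom.comp_apply]
        exact (Proj16.opensRange_emb (p := p) (chart := chart) U hU).le ⟨_, rfl⟩
      rwa [← Scheme.Hom.comp_apply, hcomp, Scheme.Hom.comp_apply] at h1
    obtain ⟨y, hy⟩ := (Proj16.opensRange_emb (p := pC) (chart := chartC) U hU).ge hwU
    have hmem : r w ∈ (RelProj.emb p chart U hU) ''ᵁ Proj.basicOpen (𝒮.deg U hU) f := by
      rw [← hu₀, Scheme.Hom.comp_apply]
      exact ⟨_, (Proj.opensRange_awayι _ f hf one_pos).le ⟨u₀, rfl⟩, rfl⟩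
    rw [Proj16.apply_mem_image_iff (RelProj.QGrHom.ofHom ι hz.graded) hU hU (le_refl U) one_pos f hf hP hC r hr' w y hy,
      Proj16.gradedAt_self] at hmem
    obtain ⟨v, hv⟩ := (Proj.opensRange_awayι _ (RelProj.gradedHomAt ι hz.graded U hU f)
      ((RelProj.gradedHomAt ι hz.graded U hU).2 hf) one_pos).ge hmem
    refine ⟨v, (RelProj.domQ (RelProj.QGrHom.ofHom ι hz.graded) pC chartC).ι.isOpenEmbedding.injective ?_⟩
    rw [← Scheme.Hom.comp_apply, hc₁, Scheme.Hom.comp_apply, hv, hy]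
    rfl

include hC hP in
/-- The pointed affine cone is a punctured line over each standard open. -/
theorem exists_puncturedChart (W : PC.Opens) (hW : W = RelProj.domQ (RelProj.QGrHom.ofHom ι hz.graded) pC chartC)
    (r : (W : Scheme.{u}) ⟶ P) (hr : ChartPred ι hz.graded p pC chart chartC W r)
    {i : 𝒮.toQCAlg.spec ⟶ PC} (hi : RelCone.IsConeImm 𝒮 hz pC chartC i)
    (i' : ((RelCone.pointedCone 𝒮 : 𝒮.toQCAlg.spec.Opens) : Scheme.{u}) ⟶ (W : Scheme.{u}))
    (hi' : i' ≫ W.ι = (RelCone.pointedCone 𝒮).ι ≫ i)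
    (U : Y.Opens) (hU : IsAffineOpen U) (f : 𝒮.presheaf.obj (op U)) (hf : f ∈ 𝒮.deg U hU 1) :
    ∃ c : Spec (CommRingCat.of (Localization.Away f)) ⟶
        ((RelCone.pointedCone 𝒮 : 𝒮.toQCAlg.spec.Opens) : Scheme.{u}),
      IsOpenImmersion c ∧
      c ≫ i' ≫ r = Spec.map (CommRingCat.ofHom (algebraMap (Away (𝒮.deg U hU) f) (Localization.Away f))) ≫
          Proj.awayι (𝒮.deg U hU) f hf one_pos ≫ RelProj.emb p chart U hU ∧
      Set.range c = (i' ≫ r) ⁻¹' Set.range (Proj.awayι (𝒮.deg U hU) f hf one_pos ≫ RelProj.emb p chart U hU) := by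
  obtain ⟨c₀, hc₀, hc₁, hc₂, hrange⟩ := exists_lineChart hz hC hP W hW r hr U hU f hf
  let zU := RelCone.restrictTop 𝒮h z U
  let φ := RelProj.gradedHomAt ι hz.graded U hU
  let e : Spec (CommRingCat.of (Localization.Away f)) ⟶ 𝒮.toQCAlg.spec :=
    Spec.map (CommRingCat.ofHom (algebraMap (𝒮.presheaf.obj (op U)) (Localization.Away f))) ≫ 𝒮.toQCAlg.ι U hU
  have hrg : ∀ t, f ∉ (Spec.map (CommRingCat.ofHom (algebraMap (𝒮.presheaf.obj (op U)) (Localization.Away f))) t).asIdeal :=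
    fun t => (PrimeSpectrum.localization_away_comap_range (Localization.Away f) f).le ⟨t, rfl⟩
  have he : Set.range e ⊆ Set.range (RelCone.pointedCone 𝒮).ι := by
    rintro _ ⟨t, rfl⟩
    rw [Scheme.Opens.range_ι, Scheme.Hom.comp_apply]
    refine (mem_pointedCone 𝒮 U hU _).mpr ((mem_vertexCompl _).mpr ⟨f, ?_, hrg t⟩)
    exact HomogeneousIdeal.mem_irrelevant_of_mem _ one_pos hf
  let c := IsOpenImmersion.lift (RelCone.pointedCone 𝒮).ι e he
  have hc : c ≫ (RelCone.pointedCone 𝒮).ι = e := IsOpenImmersion.lift_fac _ _ _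
  haveI : IsOpenImmersion c := by
    haveI : IsOpenImmersion (c ≫ (RelCone.pointedCone 𝒮).ι) := by rw [hc]; infer_instance
    exact IsOpenImmersion.of_comp _ (RelCone.pointedCone 𝒮).ι
  let v := overlapHom φ zU (hz.evalOne U hU) (hz.evalOne_ι U hU) (hz.evalOne_z U hU) f
  have hρ : ∀ (n : ℕ) (b : 𝒮h.presheaf.obj (op U)) (hb : b ∈ 𝒮h.deg U hU (n • 1)),
      hz.awayZToBase U hU (Away.mk _ (hz.deg_z U hU) n b hb) = hz.evalOne U hU b :=
    fun n b hb => hz.awayZToBase_of_val U hU _ b n (Away.val_mk _ _ _ _ _)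
  have h1 : c ≫ i' = Spec.map (CommRingCat.ofHom (v.comp (awayMap (𝒮h.deg U hU) (hz.deg_z U hU) rfl))) ≫ c₀ := by
    rw [← cancel_mono W.ι, Category.assoc, Category.assoc, hi', reassoc_of% hc, hc₁, CommRingCat.ofHom_comp,
      Spec.map_comp, Category.assoc]
    show (Spec.map _ ≫ 𝒮.toQCAlg.ι U hU) ≫ i = _
    rw [Category.assoc, hi U hU, Category.assoc, Proj.SpecMap_awayMap_awayι_assoc (𝒜 := 𝒮h.deg U hU) (show RelProj.gradedHomAt ι hz.graded U hU f ∈ 𝒮h.deg U hU 1 from (RelProj.gradedHomAt ι hz.graded U hU).2 hf) one_pos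
      (hz.deg_z U hU) rfl, ← Spec.map_comp_assoc, ← CommRingCat.ofHom_comp,
      ← overlapHom_awayMap_z φ zU (hz.deg_z U hU) (hz.evalOne U hU) (hz.evalOne_ι U hU) (hz.evalOne_z U hU) f hf _ hρ,
      CommRingCat.ofHom_comp, Spec.map_comp, Category.assoc,
      Proj.SpecMap_awayMap_awayι_assoc (𝒜 := 𝒮h.deg U hU) (hz.deg_z U hU) one_pos (show φ f ∈ 𝒮h.deg U hU 1 from φ.2 hf) (mul_comm (φ f) zU)]
  refine ⟨c, inferInstance, ?_, Set.Subset.antisymm ?_ ?_⟩
  · rw [reassoc_of% h1, hc₂, ← Spec.map_comp_assoc, ← CommRingCat.ofHom_comp]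
    congr 3
    exact overlapHom_awayMap_f φ zU (hz.deg_z U hU) (hz.evalOne U hU) (hz.evalOne_ι U hU) (hz.evalOne_z U hU) f hf
  · rintro _ ⟨t, rfl⟩
    have : i' (c t) ∈ Set.range c₀ := ⟨Spec.map (CommRingCat.ofHom (v.comp (awayMap (𝒮h.deg U hU) (hz.deg_z U hU) rfl))) t, by
      rw [← Scheme.Hom.comp_apply, ← Scheme.Hom.comp_apply, ← h1]⟩
    rw [hrange] at this
    exact this
  · intro x hx
    have hx' : i' x ∈ Set.range c₀ := by rw [hrange]; exact hx
    have hix : W.ι (i' x) = i x.1 := by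
      rw [← Scheme.Hom.comp_apply, hi', Scheme.Hom.comp_apply]; rfl
    obtain ⟨v₀, hv₀⟩ := hx'
    have hxU : 𝒮.toQCAlg.π x.1 ∈ U := by
      rw [← coneImm_comp hz hC hi, Scheme.Hom.comp_apply, ← hix, ← hv₀, ← Scheme.Hom.comp_apply c₀, hc₁,
        Scheme.Hom.comp_apply]
      exact (Proj16.opensRange_emb (p := pC) (chart := chartC) U hU).le ⟨_, rfl⟩
    obtain ⟨t, ht⟩ : x.1 ∈ (𝒮.toQCAlg.ι U hU).opensRange := (𝒮.toQCAlg.π_preimage U hU).le hxU
    have hft : f ∉ t.asIdeal := by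
      subst hW
      refine (retraction_coneImm_mem_iff hz hC hP hi r ((chartPred_iff hP _ r).mp hr) U hU one_pos f hf (i' x) t
        (by rw [ht]; exact hix)).mp ?_
      obtain ⟨u₀, hu₀⟩ := hx
      rw [show r (i' x) = _ from hu₀.symm, Scheme.Hom.comp_apply]
      exact ⟨_, (Proj.opensRange_awayι _ f hf one_pos).le ⟨u₀, rfl⟩, rfl⟩
    obtain ⟨s, hs⟩ := (PrimeSpectrum.localization_away_comap_range (Localization.Away f) f).ge hft
    refine ⟨s, (RelCone.pointedCone 𝒮).ι.isOpenEmbedding.injective ?_⟩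
    rw [← Scheme.Hom.comp_apply, hc, Scheme.Hom.comp_apply]
    exact (congrArg (fun q => 𝒮.toQCAlg.ι U hU q) hs).trans ht

end Groth.Agent.ConeX
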