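import Mathlib.AlgebraicGeometry.ProjectiveSpectrum.Functor
import Mathlib.Algebra.Polynomial.Eval.Defs
import Mathlib.Algebra.Polynomial.BigOperators
import Mathlib.RingTheory.GradedAlgebra.Homogeneous.Maps

/-!
# A graded ring with one variable of degree one adjoined
-/

set_option autoImplicit false
set_option linter.unusedSectionVars false

universe u

open Polynomial AlgebraicGeometry HomogeneousLocalization
open scoped HomogeneousIdeal

noncomputable section

namespace Groth.Agent.ConeX

variable {A B σ τ : Type u} [CommRing A] [CommRing B] [SetLike σ A] [AddSubgroupClass σ A] [SetLike τ B]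
  [AddSubgroupClass τ B] {𝒜 : ℕ → σ} [GradedRing 𝒜] {ℬ : ℕ → τ} [GradedRing ℬ]
  (φ : 𝒜 →+*ᵍ ℬ) (z : B) (hz : z ∈ ℬ 1)
  (hbij : Function.Bijective (Polynomial.eval₂RingHom φ.toRingHom z))

include hbij in
/-- Homomorphisms agree if they agree on the ring and on the variable. -/
lemma poly_ext {C : Type*} [CommRing C] {F G : B →+* C} (h : ∀ a, F (φ a) = G (φ a)) (h' : F z = G z) :
    F = G := by
  have e : F.comp (eval₂RingHom φ.toRingHom z) = G.comp (eval₂RingHom φ.toRingHom z) :=
    Polynomial.ringHom_ext (fun a => by simpa using h a) (by simpa using h')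
  refine RingHom.ext fun b => ?_
  obtain ⟨p, rfl⟩ := hbij.2 b
  exact congrArg (fun k : A[X] →+* C => k p) e

include hbij in
/-- Every element is a constant plus a multiple of the variable. -/
lemma exists_eq_add_mul (b : B) : ∃ (a : A) (c : B), b = φ a + z * c := by
  obtain ⟨p, rfl⟩ := hbij.2 b
  refine ⟨p.coeff 0, p.divX.eval₂ φ.toRingHom z, ?_⟩
  have h := congrArg (eval₂RingHom φ.toRingHom z) (X_mul_divX_add p)
  simp only [map_add, map_mul, coe_eval₂RingHom, eval₂_X, eval₂_C] at h
  exact h.symm.trans (add_comm _ _)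

include hbij in
lemma poly_injective : Function.Injective φ := fun a a' h => C_injective (hbij.1 (by simpa using h))

include hz hbij in
/-- A prime containing the variable and the image of the irrelevant ideal contains the irrelevant ideal. -/
lemma irrelevant_le_of_mem {I : Ideal B} (hzI : z ∈ I) (hA : ∀ a ∈ (𝒜₊).toIdeal, φ a ∈ I) :
    (ℬ₊).toIdeal ≤ I := by
  intro b hb
  obtain ⟨a, c, rfl⟩ := exists_eq_add_mul φ z hbij b
  refine add_mem (hA a ?_) (I.mul_mem_right c hzI)
  change GradedRing.proj ℬ 0 (φ a + z * c) = 0 at hb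
  rw [map_add, GradedRing.proj_apply, GradedRing.proj_apply,
    DirectSum.coe_decompose_mul_of_left_mem_of_not_le ℬ hz (by omega), add_zero,
    ← φ.map_directSumDecompose] at hb
  exact poly_injective φ z hbij (hb.trans (map_zero φ).symm)

include hz hbij in
/-- The coefficients of a homogeneous element are homogeneous. -/
lemma coeff_mem_of_mem {k : ℕ} {p : A[X]} (hp : p.eval₂ φ.toRingHom z ∈ ℬ k) (i : ℕ) :
    (i ≤ k → p.coeff i ∈ 𝒜 (k - i)) ∧ (k < i → p.coeff i = 0) := by
  classical
  let q : A[X] := ∑ i ∈ p.support, monomial i (if i ≤ k then (DirectSum.decompose 𝒜 (p.coeff i) (k - i) : A) else 0)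
  have hq : q.eval₂ φ.toRingHom z = p.eval₂ φ.toRingHom z := by
    conv_rhs => rw [← DirectSum.decompose_of_mem_same ℬ hp, eval₂_eq_sum, sum_def, DirectSum.decompose_sum,
      DFinsupp.finsetSum_apply, AddSubmonoidClass.coe_finsetSum]
    rw [eval₂_finsetSum]
    refine Finset.sum_congr rfl fun i _ => ?_
    rw [eval₂_monomial]
    have hzi : z ^ i ∈ ℬ i := by simpa using SetLike.pow_mem_graded i hz
    split
    · rename_i hik
      rw [DirectSum.coe_decompose_mul_of_right_mem_of_le ℬ hzi hik]
      show φ _ * _ = _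
      rw [φ.map_directSumDecompose]
      rfl
    · rename_i hik
      rw [DirectSum.coe_decompose_mul_of_right_mem_of_not_le ℬ hzi hik, map_zero, zero_mul]
  have h : p.coeff i = if i ≤ k then (DirectSum.decompose 𝒜 (p.coeff i) (k - i) : A) else 0 := by
    have := congrArg (fun r : A[X] => r.coeff i) (hbij.1 (show eval₂RingHom φ.toRingHom z q = eval₂RingHom φ.toRingHom z p from hq))
    simp only [q, finsetSum_coeff, coeff_monomial, Finset.sum_ite_eq'] at this
    conv_lhs => rw [← this]
    split
    · rfl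
    · rename_i hs
      simp [notMem_support_iff.mp hs]
  refine ⟨fun hik => ?_, fun hik => by rw [h, if_neg (by omega)]⟩
  rw [h, if_pos hik]
  exact SetLike.coe_mem _

include hz hbij in
/-- A homogeneous element vanishing at one is zero. -/
lemma eq_zero_of_eval_one {k : ℕ} {p : A[X]} (hp : p.eval₂ φ.toRingHom z ∈ ℬ k) (h1 : p.eval 1 = 0) : p = 0 := by
  classical
  refine Polynomial.ext fun i => ?_
  rw [coeff_zero]
  by_cases hik : i ≤ k
  swap
  · exact (coeff_mem_of_mem φ z hz hbij hp i).2 (by omega)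
  have h2 : (DirectSum.decompose 𝒜 (p.eval 1) (k - i) : A) = p.coeff i := by
    rw [eval_eq_sum, sum_def, DirectSum.decompose_sum, DFinsupp.finsetSum_apply, AddSubmonoidClass.coe_finsetSum]
    rw [Finset.sum_eq_single i]
    · rw [one_pow, mul_one]
      exact DirectSum.decompose_of_mem_same _ ((coeff_mem_of_mem φ z hz hbij hp i).1 hik)
    · intro j hj hji
      rw [one_pow, mul_one]
      by_cases hjk : j ≤ k
      · exact DirectSum.decompose_of_mem_ne _ ((coeff_mem_of_mem φ z hz hbij hp j).1 hjk) (by omega)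
      · simp [(coeff_mem_of_mem φ z hz hbij hp j).2 (by omega)]
    · intro hi
      simp [notMem_support_iff.mp hi]
  rw [← h2, h1]
  simp

include hz hbij in
/-- The degree zero localisation at the variable is the ring, by setting the variable to one. -/
theorem bijective_of_away (ρ : Away ℬ z →+* A) (ev : B →+* A) (hev : ∀ a, ev (φ a) = a) (hevz : ev z = 1)
    (hρ : ∀ (n : ℕ) (x : B) (hx : x ∈ ℬ (n • 1)), ρ (Away.mk ℬ hz n x hx) = ev x) : Function.Bijective ρ := by
  constructor
  · rw [injective_iff_map_eq_zero]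
    intro w hw
    obtain ⟨n, x, hx, rfl⟩ := w.mk_surjective ℬ hz
    obtain ⟨p, rfl⟩ := hbij.2 x
    rw [hρ] at hw
    have he : ev.comp (eval₂RingHom φ.toRingHom z) = evalRingHom 1 :=
      Polynomial.ringHom_ext (fun a => by simpa using hev a) (by simpa using hevz)
    have hp : p = 0 := eq_zero_of_eval_one φ z hz hbij (k := n) (by simpa using hx)
      ((congrArg (fun k : A[X] →+* A => k p) he).symm.trans hw)
    subst hp
    apply HomogeneousLocalization.val_injective
    simp [Localization.mk_zero]
  · intro a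
    induction a using DirectSum.Decomposition.inductionOn 𝒜 with
    | zero => exact ⟨0, map_zero _⟩
    | homogeneous m =>
      rename_i i
      exact ⟨Away.mk ℬ hz i (φ m) (by simpa using φ.map_mem m.2), (hρ _ _ _).trans (hev _)⟩
    | add m m' hm hm' =>
      obtain ⟨a, ha⟩ := hm
      obtain ⟨a', ha'⟩ := hm'
      exact ⟨a + a', by rw [map_add, ha, ha']⟩

include hz hbij in
/-- The image of the retraction killing the variable is the zero locus of the variable. -/
theorem range_comap_eq (ψ : ℬ →+*ᵍ 𝒜) (hψφ : ∀ a, ψ (φ a) = a) (hψz : ψ z = 0)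
    (hirr : 𝒜₊ ≤ (ℬ₊).map ψ) :
    Set.range (ProjectiveSpectrum.comap ψ hirr) =
      ((ProjectiveSpectrum.basicOpen ℬ z : TopologicalSpace.Opens (ProjectiveSpectrum ℬ)) :
        Set (ProjectiveSpectrum ℬ))ᶜ := by
  ext y
  simp only [Set.mem_range, Set.mem_compl_iff, SetLike.mem_coe, ProjectiveSpectrum.mem_basicOpen, not_not]
  constructor
  · rintro ⟨x, rfl⟩
    show ψ z ∈ x.asHomogeneousIdeal.toIdeal
    rw [hψz]; exact zero_mem _
  · intro hy
    have hirr' : ¬ 𝒜₊ ≤ y.asHomogeneousIdeal.comap φ := fun hle =>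
      y.not_irrelevant_le (irrelevant_le_of_mem φ z hz hbij hy fun a ha => hle ha)
    refine ⟨⟨y.asHomogeneousIdeal.comap φ, y.isPrime.comap φ, hirr'⟩, ?_⟩
    refine ProjectiveSpectrum.ext (HomogeneousIdeal.ext ?_)
    ext b
    show φ (ψ b) ∈ y.asHomogeneousIdeal.toIdeal ↔ b ∈ y.asHomogeneousIdeal.toIdeal
    obtain ⟨a, c, rfl⟩ := exists_eq_add_mul φ z hbij b
    rw [map_add, hψφ, map_mul, hψz, zero_mul, add_zero, Ideal.add_mem_iff_left _ (Ideal.mul_mem_right c _ hy)]

end Groth.Agent.ConeX
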