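import Groth.Agent.ConeX.Poly
import Groth.Agent.ConeX.Pointed
import Groth.Agent.Proj16.QMapComp

/-!
# The projective cone over a general base
-/

universe u

open CategoryTheory CategoryTheory.Limits AlgebraicGeometry TopologicalSpace Opposite HomogeneousLocalization
open scoped HomogeneousIdeal

set_option backward.isDefEq.respectTransparency false
set_option backward.isDefEq.respectTransparency.types false
set_option linter.style.haveILetI false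
set_option linter.unusedSectionVars false

noncomputable section

namespace Groth.Agent.ConeX

open Groth.Agent

section base

variable {Y PC : Scheme.{u}} {𝒮 𝒮h : RelProj.QCGrAlg Y} {ι : 𝒮.toQCAlg ⟶ 𝒮h.toQCAlg}
  {z : 𝒮h.presheaf.obj (op ⊤)} (hz : RelCone.IsPolyOver 𝒮 𝒮h ι z) {pC : PC ⟶ Y}
  {chartC : ∀ (U : Y.Opens) (hU : IsAffineOpen U), (((pC ⁻¹ᵁ U : PC.Opens) : Scheme.{u}) ≅ Proj (𝒮h.deg U hU))}
  (hC : RelProj.IsRelProj 𝒮h pC chartC)

lemma res_restrictTop {U V : Y.Opens} (i : V ≤ U) :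
    (𝒮h.presheaf.map (homOfLE i).op).hom (RelCone.restrictTop 𝒮h z U) = RelCone.restrictTop 𝒮h z V := by
  show (𝒮h.presheaf.map (homOfLE le_top).op ≫ 𝒮h.presheaf.map (homOfLE i).op).hom z = _
  rw [← 𝒮h.presheaf.map_comp]
  rfl

include hz in
lemma bij_eval (U : Y.Opens) (hU : IsAffineOpen U) :
    Function.Bijective (Polynomial.eval₂RingHom (RelProj.gradedHomAt ι hz.graded U hU).toRingHom
      (RelCone.restrictTop 𝒮h z U)) :=
  hz.bij U hU

include hz in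
/-- Homomorphisms out of the sections over an affine open agree if they agree on both kinds of generators. -/
lemma hom_ext' (U : Y.Opens) (hU : IsAffineOpen U) {C : Type*} [CommRing C] {F G : 𝒮h.presheaf.obj (op U) →+* C}
    (h : ∀ a, F ((ι.hom.app (op U)).hom a) = G ((ι.hom.app (op U)).hom a))
    (h' : F (RelCone.restrictTop 𝒮h z U) = G (RelCone.restrictTop 𝒮h z U)) : F = G :=
  poly_ext (RelProj.gradedHomAt ι hz.graded U hU) _ (bij_eval hz U hU) h h'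

include hz in
lemma bijective_awayZToBase (U : Y.Opens) (hU : IsAffineOpen U) : Function.Bijective (hz.awayZToBase U hU) :=
  bijective_of_away (RelProj.gradedHomAt ι hz.graded U hU) _ (hz.deg_z U hU) (bij_eval hz U hU) _
    (hz.evalOne U hU) (hz.evalOne_ι U hU) (hz.evalOne_z U hU)
    fun n x hx => hz.awayZToBase_of_val U hU _ x n (Away.val_mk _ _ _ _ _)

include hC in
/-- Whether the variable is a unit does not depend on the chart. -/
lemma mem_zOpen_iff {U V : Y.Opens} (hU : IsAffineOpen U) (hV : IsAffineOpen V) (y : Proj (𝒮h.deg U hU))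
    (y' : Proj (𝒮h.deg V hV)) (e : RelProj.emb pC chartC U hU y = RelProj.emb pC chartC V hV y') :
    y ∈ Proj.basicOpen (𝒮h.deg U hU) (RelCone.restrictTop 𝒮h z U) ↔
      y' ∈ Proj.basicOpen (𝒮h.deg V hV) (RelCone.restrictTop 𝒮h z V) := by
  have hxU : pC (RelProj.emb pC chartC U hU y) ∈ U :=
    (Proj16.opensRange_emb (p := pC) (chart := chartC) U hU).le ⟨y, rfl⟩
  have hxV : pC (RelProj.emb pC chartC U hU y) ∈ V :=
    (Proj16.opensRange_emb (p := pC) (chart := chartC) V hV).le ⟨y', e.symm⟩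
  obtain ⟨_, ⟨W, hW, rfl⟩, hxW, hWsub⟩ := Y.isBasis_affineOpens.exists_subset_of_mem_open
    (a := pC (RelProj.emb pC chartC U hU y)) (u := ((U ⊓ V : Y.Opens) : Set Y)) ⟨hxU, hxV⟩ (U ⊓ V).isOpen
  have iU : W ≤ U := fun a ha => (hWsub ha).1
  have iV : W ≤ V := fun a ha => (hWsub ha).2
  obtain ⟨w, hw⟩ := (Proj16.opensRange_emb (p := pC) (chart := chartC) W hW).ge hxW
  rw [← Proj16.mem_basicOpen_iff_res hC hU hW iU w y hw, ← Proj16.mem_basicOpen_iff_res hC hV hW iV w y' (hw.trans e)]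
  show w ∈ Proj.basicOpen _ ((𝒮h.presheaf.map (homOfLE iU).op).hom _) ↔
    w ∈ Proj.basicOpen _ ((𝒮h.presheaf.map (homOfLE iV).op).hom _)
  rw [res_restrictTop, res_restrictTop]

include hC in
/-- The pointed cone is the domain of the retraction. -/
lemma pointed_eq_domQ :
    RelCone.pointedProjCone 𝒮 hz pC chartC = RelProj.domQ (RelProj.QGrHom.ofHom ι hz.graded) pC chartC := by
  refine le_antisymm ?_ fun x hx => ?_
  · refine iSup_le fun U => ?_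
    rintro _ ⟨y, hy, rfl⟩
    exact (Proj16.emb_mem_domQ_iff ι hz.graded hC U.1 U.2 y).mpr hy
  · obtain ⟨_, ⟨U, hU, rfl⟩, hxU, -⟩ := Y.isBasis_affineOpens.exists_subset_of_mem_open
      (Set.mem_univ (pC x)) isOpen_univ
    obtain ⟨y, rfl⟩ := (Proj16.opensRange_emb (p := pC) (chart := chartC) U hU).ge hxU
    exact Opens.mem_iSup.mpr ⟨⟨U, hU⟩, y, (Proj16.emb_mem_domQ_iff ι hz.graded hC U hU y).mp hx, rfl⟩

include hz hC in
/-- Off the pointed cone the variable is a unit. -/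
lemma mem_zOpen_of_notMem {U : Y.Opens} (hU : IsAffineOpen U) (y : Proj (𝒮h.deg U hU))
    (hy : RelProj.emb pC chartC U hU y ∉ RelProj.domQ (RelProj.QGrHom.ofHom ι hz.graded) pC chartC) :
    y ∈ Proj.basicOpen (𝒮h.deg U hU) (RelCone.restrictTop 𝒮h z U) := by
  by_contra hzy
  rw [Proj16.emb_mem_domQ_iff ι hz.graded hC U hU y, RelCone.mem_domOpen] at hy
  push Not at hy
  rw [Proj.mem_basicOpen, not_not] at hzy
  exact y.not_irrelevant_le (irrelevant_le_of_mem (RelProj.gradedHomAt ι hz.graded U hU) _ (hz.deg_z U hU)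
    (bij_eval hz U hU) (I := y.asHomogeneousIdeal.toIdeal) hzy hy)

include hC in
/-- The image of the affine cone is the locus where the variable is a unit. -/
lemma mem_range_coneImm_iff {i : 𝒮.toQCAlg.spec ⟶ PC} (hi : RelCone.IsConeImm 𝒮 hz pC chartC i)
    {U : Y.Opens} (hU : IsAffineOpen U) (y : Proj (𝒮h.deg U hU)) :
    RelProj.emb pC chartC U hU y ∈ Set.range i ↔
      y ∈ Proj.basicOpen (𝒮h.deg U hU) (RelCone.restrictTop 𝒮h z U) := by
  constructor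
  · rintro ⟨x, hx⟩
    obtain ⟨_, ⟨V, hV, rfl⟩, hxV, -⟩ := Y.isBasis_affineOpens.exists_subset_of_mem_open
      (Set.mem_univ (𝒮.toQCAlg.π x)) isOpen_univ
    obtain ⟨t, rfl⟩ : x ∈ (𝒮.toQCAlg.ι V hV).opensRange := (𝒮.toQCAlg.π_preimage V hV).le hxV
    rw [← Scheme.Hom.comp_apply, hi V hV, Scheme.Hom.comp_apply, Scheme.Hom.comp_apply] at hx
    exact (mem_zOpen_iff hC hV hU _ y hx).mp ((Proj.opensRange_awayι _ _ (hz.deg_z V hV) one_pos).le ⟨_, rfl⟩)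
  · intro hy
    obtain ⟨t, ht⟩ := (Proj.opensRange_awayι _ _ (hz.deg_z U hU) one_pos).ge hy
    haveI : IsIso (CommRingCat.ofHom (hz.awayZToBase U hU)) :=
      (ConcreteCategory.isIso_iff_bijective (CommRingCat.ofHom (hz.awayZToBase U hU))).mpr (bijective_awayZToBase hz U hU)
    obtain ⟨s, hs⟩ := (Spec.map (CommRingCat.ofHom (hz.awayZToBase U hU))).surjective t
    refine ⟨𝒮.toQCAlg.ι U hU s, ?_⟩
    rw [← Scheme.Hom.comp_apply, hi U hU, Scheme.Hom.comp_apply, Scheme.Hom.comp_apply]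
    erw [hs, ht]

end base

section qmap

variable {Y Y' PC PC' : Scheme.{u}} {q : Y' ⟶ Y} {𝒮 𝒮h : RelProj.QCGrAlg Y} {𝒮' 𝒮h' : RelProj.QCGrAlg Y'}
  {ι : 𝒮.toQCAlg ⟶ 𝒮h.toQCAlg} {z : 𝒮h.presheaf.obj (op ⊤)} (hz : RelCone.IsPolyOver 𝒮 𝒮h ι z)
  {ι' : 𝒮'.toQCAlg ⟶ 𝒮h'.toQCAlg} {z' : 𝒮h'.presheaf.obj (op ⊤)} (hz' : RelCone.IsPolyOver 𝒮' 𝒮h' ι' z')
  (u : RelProj.QGrHom q 𝒮 𝒮') (uh : RelProj.QGrHom q 𝒮h 𝒮h')
  (huh : ∀ U : Y.Opens, ι.hom.app (op U) ≫ uh.app U = u.app U ≫ ι'.hom.app (op (q ⁻¹ᵁ U)))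
  (huhz : (uh.app ⊤).hom z = RelCone.restrictTop 𝒮h' z' (q ⁻¹ᵁ ⊤))
  {pC' : PC' ⟶ Y'}
  {chartC' : ∀ (U : Y'.Opens) (hU : IsAffineOpen U), (((pC' ⁻¹ᵁ U : PC'.Opens) : Scheme.{u}) ≅ Proj (𝒮h'.deg U hU))}
  (hC' : RelProj.IsRelProj 𝒮h' pC' chartC')

include huhz in
lemma appLE_z {U : Y.Opens} {U' : Y'.Opens} (hle : U' ≤ q ⁻¹ᵁ U) :
    (uh.appLE U U' hle).hom (RelCone.restrictTop 𝒮h z U) = RelCone.restrictTop 𝒮h' z' U' := by
  show (𝒮h.presheaf.map (homOfLE le_top).op ≫ uh.toQHom.appLE U U' hle).hom z = _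
  rw [RelSpec.QHom.map_appLE, RelSpec.QHom.appLE, CommRingCat.comp_apply, huhz]
  exact res_restrictTop (z := z') _

include huh in
lemma appLE_ι {U : Y.Opens} {U' : Y'.Opens} (hle : U' ≤ q ⁻¹ᵁ U) (a : 𝒮.presheaf.obj (op U)) :
    (uh.appLE U U' hle).hom ((ι.hom.app (op U)).hom a) = (ι'.hom.app (op U')).hom ((u.appLE U U' hle).hom a) := by
  show (ι.hom.app (op U) ≫ uh.app U ≫ 𝒮h'.presheaf.map (homOfLE hle).op).hom a =
    ((u.app U ≫ 𝒮'.presheaf.map (homOfLE hle).op) ≫ ι'.hom.app (op U')).hom a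
  rw [← Category.assoc, huh, Category.assoc, Category.assoc, ← ι'.hom.naturality]

include hz huh in
/-- Setting the variable to one commutes with the morphism. -/
lemma evalOne_appLE (huhz : (uh.app ⊤).hom z = RelCone.restrictTop 𝒮h' z' (q ⁻¹ᵁ ⊤))
    {U : Y.Opens} (hU : IsAffineOpen U) {U' : Y'.Opens} (hU' : IsAffineOpen U') (hle : U' ≤ q ⁻¹ᵁ U)
    (x : 𝒮h.presheaf.obj (op U)) :
    hz'.evalOne U' hU' ((uh.appLE U U' hle).hom x) = (u.appLE U U' hle).hom (hz.evalOne U hU x) := by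
  have : (hz'.evalOne U' hU').comp (uh.appLE U U' hle).hom =
      (u.appLE U U' hle).hom.comp (hz.evalOne U hU) := by
    refine hom_ext' hz U hU (fun a => ?_) ?_
    · simp only [RingHom.comp_apply]
      rw [appLE_ι u uh huh hle, hz'.evalOne_ι, hz.evalOne_ι]
    · simp only [RingHom.comp_apply]
      rw [appLE_z uh huhz hle, hz'.evalOne_z, hz.evalOne_z, map_one]
  exact congrArg (fun k : 𝒮h.presheaf.obj (op U) →+* 𝒮'.presheaf.obj (op U') => k x) this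

include hz hC' huhz in
/-- Where the variable is a unit the extended morphism is defined. -/
lemma mem_domQ_of_mem_zOpen {U' : Y'.Opens} (hU' : IsAffineOpen U') (y : Proj (𝒮h'.deg U' hU'))
    (hy : y ∈ Proj.basicOpen (𝒮h'.deg U' hU') (RelCone.restrictTop 𝒮h' z' U')) :
    RelProj.emb pC' chartC' U' hU' y ∈ RelProj.domQ uh pC' chartC' := by
  obtain ⟨_, ⟨U, hU, rfl⟩, hxU, -⟩ := Y.isBasis_affineOpens.exists_subset_of_mem_open
    (Set.mem_univ (q (pC' (RelProj.emb pC' chartC' U' hU' y)))) isOpen_univ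
  obtain ⟨_, ⟨V, hV, rfl⟩, hxV, hVsub⟩ := Y'.isBasis_affineOpens.exists_subset_of_mem_open
    (a := pC' (RelProj.emb pC' chartC' U' hU' y)) (u := ((q ⁻¹ᵁ U : Y'.Opens) : Set Y')) hxU (q ⁻¹ᵁ U).isOpen
  obtain ⟨w, hw⟩ := (Proj16.opensRange_emb (p := pC') (chart := chartC') V hV).ge hxV
  rw [← hw]
  refine Proj16.emb_mem_domQ uh hU hV hVsub one_pos _ (hz.deg_z U hU) w ?_
  rw [RelProj.QGrHom.gradedAt_apply, appLE_z uh huhz hVsub]
  exact (mem_zOpen_iff hC' hV hU' w y hw).mpr hy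

include huh in
lemma comp_ι_eq (U : Y.Opens) (hU : IsAffineOpen U) (U₁ : Y.Opens) (hU₁ : IsAffineOpen U₁) (hle : U₁ ≤ (𝟙 Y) ⁻¹ᵁ U)
    (U'' : Y'.Opens) (hU'' : IsAffineOpen U'') (hle' : U'' ≤ q ⁻¹ᵁ U₁) (hle'' : U'' ≤ q ⁻¹ᵁ U)
    (x : 𝒮.presheaf.obj (op U)) :
    (Proj16.compRight u ι' hz'.graded).gradedAt U hU U'' hU'' hle'' x =
      uh.gradedAt U₁ hU₁ U'' hU'' hle' ((RelProj.QGrHom.ofHom ι hz.graded).gradedAt U hU U₁ hU₁ hle x) := by
  show ((u.app U ≫ ι'.hom.app (op (q ⁻¹ᵁ U))) ≫ 𝒮h'.presheaf.map (homOfLE hle'').op).hom x =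
    ((ι.hom.app (op U) ≫ 𝒮h.presheaf.map (homOfLE hle).op) ≫ uh.toQHom.appLE U₁ U'' hle').hom x
  rw [← huh, Category.assoc, Category.assoc]
  exact congrArg (fun m => (ι.hom.app (op U) ≫ m).hom x) (uh.toQHom.map_appLE (show U₁ ≤ U from hle) hle').symm

end qmap

section right

variable {Y Y' : Scheme.{u}} {q : Y' ⟶ Y} {𝒜 : RelProj.QCGrAlg Y} {ℬ 𝒟 : RelProj.QCGrAlg Y'}
  (u : RelProj.QGrHom q 𝒜 ℬ) (φ : ℬ.toQCAlg ⟶ 𝒟.toQCAlg) (hφ : RelProj.IsGradedHom φ)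

lemma compRight_eq (U : Y.Opens) (hU : IsAffineOpen U) (U' : Y'.Opens) (hU' : IsAffineOpen U') (hle : U' ≤ q ⁻¹ᵁ U)
    (U'' : Y'.Opens) (hU'' : IsAffineOpen U'') (hle' : U'' ≤ (𝟙 Y') ⁻¹ᵁ U') (hle'' : U'' ≤ q ⁻¹ᵁ U)
    (x : 𝒜.presheaf.obj (op U)) :
    (Proj16.compRight u φ hφ).gradedAt U hU U'' hU'' hle'' x =
      (RelProj.QGrHom.ofHom φ hφ).gradedAt U' hU' U'' hU'' hle' (u.gradedAt U hU U' hU' hle x) := by
  show ((u.app U ≫ φ.hom.app (op (q ⁻¹ᵁ U))) ≫ 𝒟.presheaf.map (homOfLE hle'').op).hom x =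
    ((u.app U ≫ ℬ.presheaf.map (homOfLE hle).op) ≫
      φ.hom.app (op U') ≫ 𝒟.presheaf.map (homOfLE hle').op).hom x
  simp only [Category.assoc]
  erw [φ.hom.naturality_assoc (homOfLE hle).op]
  erw [← 𝒟.presheaf.map_comp]
  rfl

end right

end Groth.Agent.ConeX
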