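import Groth.Agent.ConeX.ProjCone
import Groth.Agent.SymX.ProjQMapOf
import Groth.Agent.Proj16.RelMap
import Groth.Agent.SymX.SymAlg

/-!
# The retraction of the pointed projective cone
-/

universe u

open CategoryTheory CategoryTheory.Limits AlgebraicGeometry TopologicalSpace Opposite HomogeneousLocalization
open scoped HomogeneousIdeal

set_option backward.isDefEq.respectTransparency false
set_option backward.isDefEq.respectTransparency.types false
set_option linter.style.haveILetI false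
set_option linter.unusedSectionVars false

noncomputable section

namespace Groth.Agent.ConeX

open Groth.Agent

section pred

variable {Y PA PB : Scheme.{u}} {𝒜 ℬ : RelProj.QCGrAlg Y} (φ : 𝒜.toQCAlg ⟶ ℬ.toQCAlg)
  (hφ : RelProj.IsGradedHom φ) (pA : PA ⟶ Y) (pB : PB ⟶ Y)
  (chartA : ∀ (U : Y.Opens) (hU : IsAffineOpen U), (((pA ⁻¹ᵁ U : PA.Opens) : Scheme.{u}) ≅ Proj (𝒜.deg U hU)))
  (chartB : ∀ (U : Y.Opens) (hU : IsAffineOpen U), (((pB ⁻¹ᵁ U : PB.Opens) : Scheme.{u}) ≅ Proj (ℬ.deg U hU)))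

/-- The chart equations of a morphism of the pointed cone. -/
def ChartPred (W : PB.Opens) (r : (W : Scheme.{u}) ⟶ PA) : Prop :=
  ∀ (U : Y.Opens) (hU : IsAffineOpen U) (d : ℕ) (hd : 0 < d) (f : 𝒜.presheaf.obj (op U)) (hf : f ∈ 𝒜.deg U hU d)
    (g : Spec (CommRingCat.of (Away (ℬ.deg U hU) ((RelProj.gradedHomAt φ hφ U hU) f))) ⟶ (W : Scheme.{u})),
    g ≫ W.ι = Proj.awayι (ℬ.deg U hU) ((RelProj.gradedHomAt φ hφ U hU) f)
        ((RelProj.gradedHomAt φ hφ U hU).2 hf) hd ≫ RelProj.emb pB chartB U hU →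
      g ≫ r = Spec.map (CommRingCat.ofHom (Away.map (RelProj.gradedHomAt φ hφ U hU) f)) ≫
        Proj.awayι (𝒜.deg U hU) f hf hd ≫ RelProj.emb pA chartA U hU

variable {φ hφ pA pB chartA chartB}

lemma gradedAt_ofHom {U V : Y.Opens} (hU : IsAffineOpen U) (hV : IsAffineOpen V) (hle : V ≤ U) :
    (RelProj.QGrHom.ofHom φ hφ).gradedAt U hU V hV hle =
      (RelProj.gradedHomAt φ hφ V hV).comp (𝒜.res hU hV hle) := by
  refine GradedRingHom.ext fun a => ?_
  show ((RelSpec.QHom.ofHom φ).appLE U V hle).hom a = (φ.hom.app (op V)).hom ((𝒜.presheaf.map (homOfLE hle).op).hom a)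
  rw [RelSpec.QHom.ofHom_appLE, ← CommRingCat.comp_apply, φ.hom.naturality]

/-- The chart equations are the defining equations. -/
theorem chartPred_iff (hA : RelProj.IsRelProj 𝒜 pA chartA) (W : PB.Opens) (r : (W : Scheme.{u}) ⟶ PA) :
    ChartPred φ hφ pA pB chartA chartB W r ↔
      RelProj.IsProjQMapOn (RelProj.QGrHom.ofHom φ hφ) pA chartA pB chartB W r := by
  constructor
  · intro h U hU V hV hle d hd f hf hW
    have main : ∀ (χ : 𝒜.deg U hU →+*ᵍ ℬ.deg V hV),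
        χ = (RelProj.gradedHomAt φ hφ V hV).comp (𝒜.res hU hV hle) →
        ∀ g : Spec (CommRingCat.of (Away (ℬ.deg V hV) (χ f))) ⟶ (W : Scheme.{u}),
          g ≫ W.ι = Proj16.srcChart chartB χ hd f hf → g ≫ r = Proj16.locMor chartA χ hd f hf := by
      rintro χ rfl g hg
      rw [show g ≫ r = _ from h V hV d hd (𝒜.res hU hV hle f) ((𝒜.res hU hV hle).2 hf) g hg]
      simp only [Proj16.locMor]
      rw [Proj16.away_map_comp_three (𝒜.res hU hV hle) (RelProj.gradedHomAt φ hφ V hV) f hf,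
        CommRingCat.ofHom_comp, Spec.map_comp, Category.assoc]
      exact congrArg (fun k => Spec.map (CommRingCat.ofHom (Away.map (RelProj.gradedHomAt φ hφ V hV)
        (𝒜.res hU hV hle f))) ≫ k) (SymX.awayι_res_emb hA hU hV hle hd f hf)
    exact main _ (gradedAt_ofHom hU hV hle) _ (IsOpenImmersion.lift_fac _ _ hW)
  · intro h U hU d hd f hf g hg
    have main : ∀ (χ : 𝒜.deg U hU →+*ᵍ ℬ.deg U hU),
        χ = (RelProj.QGrHom.ofHom φ hφ).gradedAt U hU U hU le_rfl →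
        ∀ g : Spec (CommRingCat.of (Away (ℬ.deg U hU) (χ f))) ⟶ (W : Scheme.{u}),
          g ≫ W.ι = Proj16.srcChart chartB χ hd f hf → g ≫ r = Proj16.locMor chartA χ hd f hf := by
      rintro χ rfl g hg
      have hW : Set.range (RelProj.awayEmb (RelProj.QGrHom.ofHom φ hφ) pB chartB U hU U hU le_rfl hd f hf).base ⊆
          Set.range W.ι.base := by
        rintro _ ⟨t, rfl⟩
        exact ⟨g t, congrArg (fun k : _ ⟶ PB => k t) hg⟩
      rw [show g = IsOpenImmersion.lift W.ι _ hW by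
        rw [← cancel_mono W.ι, IsOpenImmersion.lift_fac]; exact hg]
      exact h U hU U hU le_rfl d hd f hf hW
    exact main _ (Proj16.gradedAt_self φ hφ U hU).symm g hg

/-- The identity gives the inclusion of its domain. -/
theorem isProjQMapOn_id (hA : RelProj.IsRelProj 𝒜 pA chartA)
    (ψ : 𝒜.toQCAlg ⟶ 𝒜.toQCAlg) (hψ : RelProj.IsGradedHom ψ) (hψid : ψ = 𝟙 _) :
    RelProj.IsProjQMapOn (RelProj.QGrHom.ofHom ψ hψ) pA chartA pA chartA
      (RelProj.domQ (RelProj.QGrHom.ofHom ψ hψ) pA chartA)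
      (RelProj.domQ (RelProj.QGrHom.ofHom ψ hψ) pA chartA).ι := by
  intro U hU V hV hle d hd f hf hW
  rw [IsOpenImmersion.lift_fac]
  have main : ∀ (χ : 𝒜.deg U hU →+*ᵍ 𝒜.deg V hV), χ = 𝒜.res hU hV hle →
      Proj16.srcChart chartA χ hd f hf = Proj16.locMor chartA χ hd f hf := by
    rintro χ rfl
    exact SymX.awayι_res_emb hA hU hV hle hd f hf
  refine main _ ?_
  subst hψid
  refine GradedRingHom.ext fun a => ?_
  show ((RelSpec.QHom.ofHom (𝟙 𝒜.toQCAlg)).appLE U V hle).hom a = _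
  rw [RelSpec.QHom.ofHom_appLE]
  rfl

end pred

variable {Y PC P : Scheme.{u}} {𝒮 𝒮h : RelProj.QCGrAlg Y} {ι : 𝒮.toQCAlg ⟶ 𝒮h.toQCAlg}
  {z : 𝒮h.presheaf.obj (op ⊤)} (hz : RelCone.IsPolyOver 𝒮 𝒮h ι z) {pC : PC ⟶ Y}
  {chartC : ∀ (U : Y.Opens) (hU : IsAffineOpen U), (((pC ⁻¹ᵁ U : PC.Opens) : Scheme.{u}) ≅ Proj (𝒮h.deg U hU))}
  (hC : RelProj.IsRelProj 𝒮h pC chartC) {p : P ⟶ Y}
  {chart : ∀ (U : Y.Opens) (hU : IsAffineOpen U), (((p ⁻¹ᵁ U : P.Opens) : Scheme.{u}) ≅ Proj (𝒮.deg U hU))}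
  (hP : RelProj.IsRelProj 𝒮 p chart)

include hz in
/-- The retraction killing the variable. -/
theorem exists_theta_retraction : ∃ (θ : 𝒮h.toQCAlg ⟶ 𝒮.toQCAlg) (_ : RelProj.IsGradedHom θ),
    ι ≫ θ = 𝟙 _ ∧ (θ.hom.app (op ⊤)).hom z = 0 := by
  let ev0 : ∀ a : Y.AffineZariskiSite, 𝒮h.presheaf.obj (op a.1) →+* 𝒮.presheaf.obj (op a.1) := fun a =>
    (Polynomial.evalRingHom 0).comp (hz.polyEquiv a.1 a.2).symm.toRingHom
  have h1 : ∀ (a : Y.AffineZariskiSite) (x : 𝒮.presheaf.obj (op a.1)), ev0 a ((ι.hom.app (op a.1)).hom x) = x := by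
    intro a x
    have e : hz.polyEquiv a.1 a.2 (Polynomial.C x) = (ι.hom.app (op a.1)).hom x := by
      rw [RelCone.IsPolyOver.polyEquiv_apply, Polynomial.eval₂_C]
    simp [ev0, ← e]
  have h2 : ∀ a : Y.AffineZariskiSite, ev0 a (RelCone.restrictTop 𝒮h z a.1) = 0 := by
    intro a
    have e : hz.polyEquiv a.1 a.2 Polynomial.X = RelCone.restrictTop 𝒮h z a.1 := by
      rw [RelCone.IsPolyOver.polyEquiv_apply, Polynomial.eval₂_X]
    simp [ev0, ← e]
  obtain ⟨θ, hθ⟩ := SymX.exists_homQCAlg 𝒮h.toQCAlg 𝒮.toQCAlg (fun a => CommRingCat.ofHom (ev0 a))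
    (fun {a b} h => by
      refine CommRingCat.hom_ext (hom_ext' hz a.1 a.2 (fun x => ?_) ?_)
      · show ev0 b ((ι.hom.app (op a.1) ≫ 𝒮h.presheaf.map (homOfLE (Scheme.AffineZariskiSite.toOpens_mono h)).op).hom x) =
          (𝒮.presheaf.map (homOfLE (Scheme.AffineZariskiSite.toOpens_mono h)).op).hom (ev0 a ((ι.hom.app (op a.1)).hom x))
        rw [← ι.hom.naturality, h1 a]
        exact h1 b _
      · show ev0 b ((𝒮h.presheaf.map (homOfLE (Scheme.AffineZariskiSite.toOpens_mono h)).op).hom _) =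
          (𝒮.presheaf.map (homOfLE (Scheme.AffineZariskiSite.toOpens_mono h)).op).hom (ev0 a _)
        rw [res_restrictTop, h2, h2, map_zero])
    (fun a => by
      refine CommRingCat.hom_ext (RingHom.ext fun r => ?_)
      show ev0 a ((𝒮h.str.app (op a.1)).hom r) = (𝒮.str.app (op a.1)).hom r
      rw [← ι.comm]
      exact h1 a _)
  have hθ' : ∀ (a : Y.AffineZariskiSite) (x : 𝒮h.presheaf.obj (op a.1)), (θ.hom.app (op a.1)).hom x = ev0 a x :=
    fun a x => by rw [hθ a]; rfl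
  refine ⟨θ, fun U hU d x hx => ?_, SymX.homQCAlg_ext fun a => ?_, ?_⟩
  · rw [hθ' ⟨U, hU⟩ x]
    obtain ⟨q, rfl⟩ := (bij_eval hz U hU).2 x
    have hq := (coeff_mem_of_mem (RelProj.gradedHomAt ι hz.graded U hU) _ (hz.deg_z U hU) (bij_eval hz U hU) hx 0).1
      (Nat.zero_le d)
    show Polynomial.eval 0 ((hz.polyEquiv U hU).symm _) ∈ _
    rw [show (hz.polyEquiv U hU).symm (Polynomial.eval₂RingHom (RelProj.gradedHomAt ι hz.graded U hU).toRingHom
      (RelCone.restrictTop 𝒮h z U) q) = q from (RingEquiv.symm_apply_eq _).mpr rfl, ← Polynomial.coeff_zero_eq_eval_zero]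
    simpa using hq
  · refine CommRingCat.hom_ext (RingHom.ext fun x => ?_)
    show (θ.hom.app (op a.1)).hom ((ι.hom.app (op a.1)).hom x) = x
    rw [hθ' a, h1 a]
  · refine AModX.eq_of_locally (M := 𝒮.toModule) (V := (⊤ : Y.Opens)) ((θ.hom.app (op ⊤)).hom z) 0 fun x _ => ?_
    obtain ⟨_, ⟨U, hU, rfl⟩, hxU, -⟩ := Y.isBasis_affineOpens.exists_subset_of_mem_open (Set.mem_univ x) isOpen_univ
    refine ⟨U, le_top, hxU, ?_⟩
    show (𝒮.presheaf.map (homOfLE le_top).op).hom ((θ.hom.app (op ⊤)).hom z) = _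
    rw [map_zero, ← CommRingCat.comp_apply, ← θ.hom.naturality, CommRingCat.comp_apply]
    exact (hθ' ⟨U, hU⟩ _).trans (h2 ⟨U, hU⟩)

/-- The retraction has surjective positive degrees. -/
lemma irrelevant_le_of_retraction (θ : 𝒮h.toQCAlg ⟶ 𝒮.toQCAlg) (hθ : RelProj.IsGradedHom θ) (hιθ : ι ≫ θ = 𝟙 _)
    (hι : RelProj.IsGradedHom ι) (U : Y.Opens) (hU : IsAffineOpen U) :
    (𝒮.deg U hU)₊ ≤ ((𝒮h.deg U hU)₊).map (RelProj.gradedHomAt θ hθ U hU) := by
  intro a ha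
  have e : RelProj.gradedHomAt θ hθ U hU (RelProj.gradedHomAt ι hι U hU a) = a :=
    congr($(NatTrans.congr_app (congrArg RelSpec.QCAlg.Hom.hom hιθ) (op U)).hom a)
  rw [← e]
  exact Ideal.mem_map_of_mem _ (map_mem_irrelevant _ ha)

include hC hP in
/-- The retraction is affine. -/
theorem isAffineHom_retraction (r : (RelProj.domQ (RelProj.QGrHom.ofHom ι hz.graded) pC chartC : Scheme.{u}) ⟶ P)
    (hr : RelProj.IsProjQMapOn (RelProj.QGrHom.ofHom ι hz.graded) p chart pC chartC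
      (RelProj.domQ (RelProj.QGrHom.ofHom ι hz.graded) pC chartC) r) : IsAffineHom r :=
  Proj16.projQMapOn_of_charts ι hz.graded hC hP r hr @IsAffineHom fun _ _ _ _ _ _ => inferInstance

include hC hP in
/-- The retraction retracts the immersion at infinity. -/
theorem retraction_comp (θ : 𝒮h.toQCAlg ⟶ 𝒮.toQCAlg) (hθ : RelProj.IsGradedHom θ) (hιθ : ι ≫ θ = 𝟙 _)
    (hirr : ∀ (U : Y.Opens) (hU : IsAffineOpen U),
      (𝒮.deg U hU)₊ ≤ ((𝒮h.deg U hU)₊).map (RelProj.gradedHomAt θ hθ U hU))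
    (j : P ⟶ PC) (hj : RelProj.IsRelProjMap θ hθ hirr chartC chart j)
    (r : (RelProj.domQ (RelProj.QGrHom.ofHom ι hz.graded) pC chartC : Scheme.{u}) ⟶ P)
    (hr : RelProj.IsProjQMapOn (RelProj.QGrHom.ofHom ι hz.graded) p chart pC chartC
      (RelProj.domQ (RelProj.QGrHom.ofHom ι hz.graded) pC chartC) r) :
    (∀ x, j x ∈ RelProj.domQ (RelProj.QGrHom.ofHom ι hz.graded) pC chartC) ∧
      ∀ j' : P ⟶ (RelProj.domQ (RelProj.QGrHom.ofHom ι hz.graded) pC chartC : Scheme.{u}),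
        j' ≫ (RelProj.domQ (RelProj.QGrHom.ofHom ι hz.graded) pC chartC).ι = j → j' ≫ r = 𝟙 P := by
  have hh := SymX.isProjQMap_of_isRelProjMap hC hj
  have hj₀ := Proj16.isProjQMapOn_of_isProjQMap θ hθ hP hh
  have hone : RelProj.IsGradedHom (𝟙 𝒮.toQCAlg) := fun U hU d x hx => hx
  let w := RelProj.QGrHom.ofHom (𝟙 𝒮.toQCAlg) hone
  have hw : ∀ (U : Y.Opens) (hU : IsAffineOpen U) (U' : Y.Opens) (hU' : IsAffineOpen U') (hle : U' ≤ (𝟙 Y) ⁻¹ᵁ U)
      (U'' : Y.Opens) (hU'' : IsAffineOpen U'') (hle' : U'' ≤ (𝟙 Y) ⁻¹ᵁ U') (hle'' : U'' ≤ (𝟙 Y) ⁻¹ᵁ U)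
      (x : 𝒮.presheaf.obj (op U)),
      w.gradedAt U hU U'' hU'' hle'' x = (RelProj.QGrHom.ofHom θ hθ).gradedAt U' hU' U'' hU'' hle'
        ((RelProj.QGrHom.ofHom ι hz.graded).gradedAt U hU U' hU' hle x) := by
    intro U hU U' hU' hle U'' hU'' hle' hle'' x
    rw [gradedAt_ofHom hU hU'' hle'', gradedAt_ofHom hU' hU'' hle', gradedAt_ofHom hU hU' hle]
    show (𝒮.presheaf.map (homOfLE _).op).hom x = (θ.hom.app (op U'')).hom
      ((ι.hom.app (op U') ≫ 𝒮h.presheaf.map (homOfLE _).op).hom ((𝒮.presheaf.map (homOfLE _).op).hom x))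
    rw [← ι.hom.naturality, CommRingCat.comp_apply]
    rw [show ∀ a, (θ.hom.app (op U'')).hom ((ι.hom.app (op U'')).hom a) = a from fun a =>
      congr($(NatTrans.congr_app (congrArg RelSpec.QCAlg.Hom.hom hιθ) (op U'')).hom a),
      ← CommRingCat.comp_apply, ← Functor.map_comp]
    rfl
  have hwtop : RelProj.domQ w p chart = ⊤ :=
    Proj16.domQ_eq_top (𝟙 𝒮.toQCAlg) hone hP 0 fun k _ U hU b hb => ⟨b, hb, rfl⟩
  have hwid := isProjQMapOn_id hP _ hone rfl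
  have hmem : ∀ x, j x ∈ RelProj.domQ (RelProj.QGrHom.ofHom ι hz.graded) pC chartC := fun x =>
    Proj16.apply_mem_domQ (RelProj.QGrHom.ofHom ι hz.graded) (RelProj.QGrHom.ofHom θ hθ) w (Category.id_comp _) hw
      hP hC hP r hr _ hj₀ _ hwid (x := ⟨x, hh.1.ge trivial⟩) (hwtop.ge trivial)
  refine ⟨hmem, fun j' hj' => ?_⟩
  let b : P ⟶ (RelProj.domQ (RelProj.QGrHom.ofHom θ hθ) p chart : Scheme.{u}) :=
    IsOpenImmersion.lift (RelProj.domQ (RelProj.QGrHom.ofHom θ hθ) p chart).ι (𝟙 P)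
      (by rw [Scheme.Opens.range_ι, hh.1]; exact fun _ _ => trivial)
  let d : P ⟶ (RelProj.domQ w p chart : Scheme.{u}) :=
    IsOpenImmersion.lift (RelProj.domQ w p chart).ι (𝟙 P)
      (by rw [Scheme.Opens.range_ι, hwtop]; exact fun _ _ => trivial)
  have hb : b ≫ (RelProj.domQ (RelProj.QGrHom.ofHom θ hθ) p chart).ι = 𝟙 P := IsOpenImmersion.lift_fac _ _ _
  have hd : d ≫ (RelProj.domQ w p chart).ι = 𝟙 P := IsOpenImmersion.lift_fac _ _ _
  exact (Proj16.comp_eq (RelProj.QGrHom.ofHom ι hz.graded) (RelProj.QGrHom.ofHom θ hθ) w (Category.id_comp _) hw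
    hP hC hP r hr _ hj₀ _ hwid b j' d (hd.trans hb.symm) (by rw [reassoc_of% hb, hj'])).trans hd

include hC hP in
/-- The retraction is surjective. -/
theorem surjective_retraction (r : (RelProj.domQ (RelProj.QGrHom.ofHom ι hz.graded) pC chartC : Scheme.{u}) ⟶ P)
    (hr : RelProj.IsProjQMapOn (RelProj.QGrHom.ofHom ι hz.graded) p chart pC chartC
      (RelProj.domQ (RelProj.QGrHom.ofHom ι hz.graded) pC chartC) r) : Function.Surjective r := by
  obtain ⟨θ, hθ, hιθ, -⟩ := exists_theta_retraction hz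
  have hirr := irrelevant_le_of_retraction θ hθ hιθ hz.graded
  obtain ⟨j, hj, -⟩ := Proj16.existsUnique_isRelProjMap θ hθ hirr hC hP
  obtain ⟨hmem, hcomp⟩ := retraction_comp hz hC hP θ hθ hιθ hirr j hj r hr
  intro x
  let j' := IsOpenImmersion.lift (RelProj.domQ (RelProj.QGrHom.ofHom ι hz.graded) pC chartC).ι j
    (by rw [Scheme.Opens.range_ι]; rintro _ ⟨y, rfl⟩; exact hmem y)
  refine ⟨j' x, ?_⟩
  rw [← Scheme.Hom.comp_apply, hcomp j' (IsOpenImmersion.lift_fac _ _ _)]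
  rfl

end Groth.Agent.ConeX
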