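import Groth.Agent.ConeX.ConeImm
import Groth.Agent.ConeX.ProjCone
import Groth.Agent.ConeX.AffineCone

/-!
# A quasi-coherent algebra as a graded algebra concentrated in degree zero
-/

universe u

open CategoryTheory CategoryTheory.Limits AlgebraicGeometry TopologicalSpace Opposite
open scoped HomogeneousIdeal

set_option backward.isDefEq.respectTransparency false
set_option backward.isDefEq.respectTransparency.types false

noncomputable section

namespace Groth.Agent.ConeX

open Groth.Agent HomogeneousLocalization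

section ring

variable (A : Type u) [CommRing A]

/-- Everything in degree zero. -/
def degZero : ℕ → AddSubgroup A
  | 0 => ⊤
  | _ + 1 => ⊥

instance degZero_gradedMonoid : SetLike.GradedMonoid (degZero A) where
  one_mem := trivial
  mul_mem := fun {i k x y} hx hy => by
    match i, k with
    | 0, 0 => exact trivial
    | i + 1, k => rw [AddSubgroup.mem_bot.mp hx, zero_mul]; exact zero_mem _
    | 0, k + 1 => rw [AddSubgroup.mem_bot.mp hy, mul_zero]; exact zero_mem _

instance degZero_gradedRing : GradedRing (degZero A) where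
  decompose' x := DirectSum.of (fun i => degZero A i) 0 ⟨x, trivial⟩
  left_inv x := DirectSum.coeAddMonoidHom_of _ _ _
  right_inv d := by
    induction d using DirectSum.induction_on with
    | zero => rw [map_zero]; exact (map_zero (DirectSum.of (fun i => degZero A i) 0) : _)
    | of i x =>
      rw [DirectSum.coeAddMonoidHom_of]
      match i with
      | 0 => rfl
      | i + 1 =>
        have hx : x = 0 := Subtype.ext (AddSubgroup.mem_bot.mp x.2)
        subst hx
        rw [map_zero]
        exact (map_zero (DirectSum.of (fun i => degZero A i) 0) : _)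
    | add a b ha hb =>
      rw [map_add]
      conv_rhs => rw [← ha, ← hb, ← map_add]
      rfl

end ring

/-- The algebra graded in degree zero. -/
def trivialGr {Y : Scheme.{u}} (𝒜 : RelSpec.QCAlg Y) : RelProj.QCGrAlg Y where
  toQCAlg := 𝒜
  deg U _ := degZero (𝒜.presheaf.obj (op U))
  graded U _ := degZero_gradedRing _
  map_mem {U V} _ _ i {d x} hx := by
    match d with
    | 0 => exact trivial
    | d + 1 => rw [AddSubgroup.mem_bot.mp hx, map_zero]; exact zero_mem _
  str_mem _ _ _ := trivial

variable {Y PC : Scheme.{u}} {𝒜 : RelSpec.QCAlg Y} {Sh : RelProj.QCGrAlg Y} (ι : 𝒜 ⟶ Sh.toQCAlg)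

lemma isPolyOver_trivial (hι : ∀ (U : Y.Opens) (hU : IsAffineOpen U) (a : 𝒜.presheaf.obj (op U)),
      (ι.hom.app (op U)).hom a ∈ Sh.deg U hU 0)
    (z : Sh.presheaf.obj (op ⊤))
    (hz : ∀ (U : Y.Opens) (hU : IsAffineOpen U), (Sh.presheaf.map (homOfLE le_top).op).hom z ∈ Sh.deg U hU 1)
    (hpoly : ∀ (U : Y.Opens) (_ : IsAffineOpen U),
      Function.Bijective (Polynomial.eval₂RingHom (ι.hom.app (op U)).hom ((Sh.presheaf.map (homOfLE le_top).op).hom z))) :
    RelCone.IsPolyOver (trivialGr 𝒜) Sh ι z where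
  graded U hU d x hx := by
    match d with
    | 0 => exact hι U hU x
    | d + 1 => rw [show x = 0 from AddSubgroup.mem_bot.mp hx, map_zero]; exact zero_mem _
  deg_z := hz
  bij := hpoly

variable {z : Sh.presheaf.obj (op ⊤)} (hz : RelCone.IsPolyOver (trivialGr 𝒜) Sh ι z) {pC : PC ⟶ Y}
  {chartC : ∀ (U : Y.Opens) (hU : IsAffineOpen U), (((pC ⁻¹ᵁ U : PC.Opens) : Scheme.{u}) ≅ Proj (Sh.deg U hU))}
  (hC : RelProj.IsRelProj Sh pC chartC) {i : (trivialGr 𝒜).toQCAlg.spec ⟶ PC}
  (hi : RelCone.IsConeImm (trivialGr 𝒜) hz pC chartC i)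

include hC hi in
theorem isIso_coneImm_trivial : IsIso i := by
  haveI := isOpenImmersion_coneImm hz hC hi
  haveI : Epi i.base := (TopCat.epi_iff_surjective _).mpr fun c => by
    obtain ⟨_, ⟨U, hU, rfl⟩, hcU, -⟩ := Y.isBasis_affineOpens.exists_subset_of_mem_open (Set.mem_univ (pC c)) isOpen_univ
    obtain ⟨y, rfl⟩ : c ∈ Set.range (RelProj.emb pC chartC U hU) :=
      (Proj16.opensRange_emb (p := pC) (chart := chartC) U hU).ge hcU
    refine (mem_range_coneImm_iff hz hC hi hU y).mpr ?_
    by_contra hzy
    rw [Proj.mem_basicOpen, not_not] at hzy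
    refine y.not_irrelevant_le (irrelevant_le_of_mem (RelProj.gradedHomAt (𝒜 := trivialGr 𝒜) ι hz.graded U hU) _ (hz.deg_z U hU)
      (bij_eval (𝒮 := trivialGr 𝒜) hz U hU) (I := y.asHomogeneousIdeal.toIdeal) hzy fun a ha => ?_)
    rw [show a = 0 from ?_, map_zero]
    · exact zero_mem _
    · have h := (HomogeneousIdeal.mem_irrelevant_iff _ _).mp ha
      rw [GradedRing.proj_apply] at h
      exact (congrArg Subtype.val (DirectSum.of_eq_same (β := fun i => degZero (𝒜.presheaf.obj (op U)) i) 0 ⟨a, trivial⟩)).symm.trans h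
  exact IsOpenImmersion.isIso i

end Groth.Agent.ConeX
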